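/-
Sylow 2-subgroups of the symmetric and alternating groups: orbits, pairing, self-normalization.
-/
import Mathlib.GroupTheory.Sylow
import Mathlib.GroupTheory.PGroup
import Mathlib.GroupTheory.Perm.Sign
import Mathlib.GroupTheory.Perm.Cycle.Type
import Mathlib.GroupTheory.GroupAction.Blocks
import Mathlib.GroupTheory.GroupAction.SubMulAction.OfStabilizer
import Mathlib.GroupTheory.SpecificGroups.Alternating
import Mathlib.Tactic

set_option autoImplicit false
set_option linter.unusedSectionVars false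

open Equiv MulAction

namespace Cfsg.Agent.Lib.Alt

variable {Ω : Type*} [Fintype Ω] [DecidableEq Ω]

/-- A 2-subgroup normalised by a Sylow 2-subgroup is contained in it. -/
theorem le_sylow_of_normalized {G : Type*} [Group G] {p : ℕ} (P : Sylow p G) (Q : Subgroup G)
    (hQ : IsPGroup p ↥Q) (h : ∀ g ∈ P, ∀ q ∈ Q, g * q * g⁻¹ ∈ Q) : Q ≤ P := by
  have hN : (P : Subgroup G) ≤ Subgroup.normalizer (Q : Set G) := by
    intro g hg
    rw [Subgroup.mem_normalizer_iff]
    intro q
    refine ⟨h g hg q, fun hq => ?_⟩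
    have := h g⁻¹ (P.inv_mem hg) _ hq
    simpa [mul_assoc] using this
  have h2 : IsPGroup p ↥((P : Subgroup G) ⊔ Q) := P.isPGroup'.to_sup_of_normal_right' hQ hN
  have := P.is_maximal' h2 le_sup_left
  exact le_trans le_sup_right this.le

variable (P : Sylow 2 (Perm Ω))

/-- The orbit of a point under a Sylow subgroup. -/
def orb (x : Ω) : Set Ω := {y | ∃ p ∈ P, p x = y}

theorem self_mem_orb (x : Ω) : x ∈ orb P x := ⟨1, P.one_mem, rfl⟩

theorem apply_mem_orb {x y : Ω} {p : Perm Ω} (hp : p ∈ P) : p y ∈ orb P x ↔ y ∈ orb P x := by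
  constructor
  · rintro ⟨q, hq, hqy⟩
    exact ⟨p⁻¹ * q, P.mul_mem (P.inv_mem hp) hq, by simp [Perm.mul_apply, hqy]⟩
  · rintro ⟨q, hq, rfl⟩
    exact ⟨p * q, P.mul_mem hp hq, by simp [Perm.mul_apply]⟩

theorem orb_eq_of_mem {x y : Ω} (h : y ∈ orb P x) : orb P y = orb P x := by
  obtain ⟨q, hq, rfl⟩ := h
  ext z
  constructor
  · rintro ⟨p, hp, rfl⟩
    exact ⟨p * q, P.mul_mem hp hq, by simp [Perm.mul_apply]⟩
  · rintro ⟨p, hp, rfl⟩
    exact ⟨p * q⁻¹, P.mul_mem hp (P.inv_mem hq), by simp [Perm.mul_apply]⟩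

theorem orb_eq_orbit (x : Ω) : orb P x = MulAction.orbit ↥(P : Subgroup (Perm Ω)) x := by
  ext y
  constructor
  · rintro ⟨p, hp, rfl⟩
    exact ⟨⟨p, hp⟩, rfl⟩
  · rintro ⟨p, rfl⟩
    exact ⟨p.1, p.2, rfl⟩

theorem exists_ncard_orb (x : Ω) : ∃ k : ℕ, (orb P x).ncard = 2 ^ k := by
  have : Fact (Nat.Prime 2) := ⟨Nat.prime_two⟩
  obtain ⟨k, hk⟩ := P.isPGroup'.card_orbit x
  refine ⟨k, ?_⟩
  rw [orb_eq_orbit, ← Nat.card_coe_set_eq, hk]

/-- The permutations that agree with some element of `P` on an orbit and are trivial outside it. -/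
def orbPart (x : Ω) : Subgroup (Perm Ω) where
  carrier := {q | ∃ p ∈ P, (∀ y ∈ orb P x, q y = p y) ∧ ∀ y ∉ orb P x, q y = y}
  one_mem' := ⟨1, P.one_mem, fun _ _ => rfl, fun _ _ => rfl⟩
  mul_mem' := by
    rintro q r ⟨a, ha, ha1, ha2⟩ ⟨b, hb, hb1, hb2⟩
    refine ⟨a * b, P.mul_mem ha hb, fun y hy => ?_, fun y hy => ?_⟩
    · rw [Perm.mul_apply, Perm.mul_apply, hb1 y hy, ha1 _ ((apply_mem_orb P hb).2 hy)]
    · rw [Perm.mul_apply, hb2 y hy, ha2 y hy]
  inv_mem' := by
    rintro q ⟨a, ha, ha1, ha2⟩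
    refine ⟨a⁻¹, P.inv_mem ha, fun y hy => ?_, fun y hy => ?_⟩
    · apply q.injective
      rw [Perm.coe_inv, q.apply_symm_apply]
      have h' := ha1 (a⁻¹ y) ((apply_mem_orb P (P.inv_mem ha)).2 hy)
      rw [h']
      simp
    · apply q.injective
      rw [Perm.coe_inv, q.apply_symm_apply, ha2 y hy]

theorem orbPart_isPGroup (x : Ω) : IsPGroup 2 ↥(orbPart P x) := by
  rintro ⟨q, p, hp, h1, h2⟩
  obtain ⟨k, hk⟩ := P.isPGroup' ⟨p, hp⟩
  have hk' : p ^ (2 ^ k) = 1 := by
    have := congrArg Subtype.val hk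
    simpa using this
  refine ⟨k, ?_⟩
  apply Subtype.ext
  simp only [SubmonoidClass.coe_pow, OneMemClass.coe_one]
  have key : ∀ j : ℕ, (∀ y ∈ orb P x, (q ^ j) y = (p ^ j) y) ∧ ∀ y ∉ orb P x, (q ^ j) y = y := by
    intro j
    induction j with
    | zero => simp
    | succ j ih =>
      refine ⟨fun y hy => ?_, fun y hy => ?_⟩
      · rw [pow_succ', pow_succ', Perm.mul_apply, Perm.mul_apply, ih.1 y hy,
          h1 _ ((apply_mem_orb P (P.pow_mem hp j)).2 hy)]
      · rw [pow_succ', Perm.mul_apply, ih.2 y hy, h2 y hy]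
  ext y
  by_cases hy : y ∈ orb P x
  · rw [(key _).1 y hy, hk']
  · rw [(key _).2 y hy]; rfl

theorem orbPart_le (x : Ω) : orbPart P x ≤ P := by
  apply le_sylow_of_normalized P _ (orbPart_isPGroup P x)
  rintro g hg q ⟨p, hp, h1, h2⟩
  refine ⟨g * p * g⁻¹, P.mul_mem (P.mul_mem hg hp) (P.inv_mem hg), fun y hy => ?_, fun y hy => ?_⟩
  · rw [Perm.mul_apply, Perm.mul_apply, Perm.mul_apply, Perm.mul_apply,
      h1 _ ((apply_mem_orb P (P.inv_mem hg)).2 hy)]
  · rw [Perm.mul_apply, Perm.mul_apply,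
      h2 _ (fun h => hy ((apply_mem_orb P (P.inv_mem hg)).1 h))]
    simp

/-- Each element of `P` restricts to an element of `P` on each orbit. -/
theorem exists_restrict (x : Ω) {p : Perm Ω} (hp : p ∈ P) :
    ∃ q ∈ P, (∀ y ∈ orb P x, q y = p y) ∧ ∀ y ∉ orb P x, q y = y := by
  classical
  have hinv : ∀ y, y ∈ orb P x ↔ p y ∈ orb P x := fun y => (apply_mem_orb P hp).symm
  refine ⟨Perm.ofSubtype (p.subtypePerm (p := fun y => y ∈ orb P x) (fun y => (hinv y).symm)), ?_, ?_, ?_⟩
  · apply orbPart_le P x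
    refine ⟨p, hp, fun y hy => ?_, fun y hy => ?_⟩
    · rw [Perm.ofSubtype_apply_of_mem _ hy]; rfl
    · rw [Perm.ofSubtype_apply_of_not_mem _ hy]
  · intro y hy
    rw [Perm.ofSubtype_apply_of_mem _ hy]; rfl
  · intro y hy
    rw [Perm.ofSubtype_apply_of_not_mem _ hy]

/-- A point is moved by `P`. -/
def Moved (x : Ω) : Prop := ∃ p ∈ P, p x ≠ x

theorem orb_of_not_moved {x : Ω} (h : ¬ Moved P x) : orb P x = {x} := by
  ext y
  simp only [Set.mem_singleton_iff]
  constructor
  · rintro ⟨p, hp, rfl⟩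
    by_contra hne
    exact h ⟨p, hp, hne⟩
  · rintro rfl; exact self_mem_orb P y

theorem two_le_ncard_orb {x : Ω} (h : Moved P x) : 2 ≤ (orb P x).ncard := by
  obtain ⟨p, hp, hpx⟩ := h
  have : ({x, p x} : Set Ω) ⊆ orb P x := by
    rintro y (rfl | rfl)
    · exact self_mem_orb P _
    · exact ⟨p, hp, rfl⟩
  have h2 := Set.ncard_le_ncard this (Set.toFinite _)
  rwa [Set.ncard_pair (Ne.symm hpx)] at h2

/-- Central involution supported on one orbit. -/
theorem exists_central {x : Ω} (h : Moved P x) :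
    ∃ z ∈ P, z * z = 1 ∧ (∀ p ∈ P, p * z = z * p) ∧ (∀ y ∈ orb P x, z y ≠ y) ∧
      ∀ y ∉ orb P x, z y = y := by
  classical
  have : Fact (Nat.Prime 2) := ⟨Nat.prime_two⟩
  have hnt : Nontrivial ↥(orbPart P x) := by
    obtain ⟨p, hp, hpx⟩ := h
    obtain ⟨q, -, hq1, hq2⟩ := exists_restrict P x hp
    refine ⟨⟨⟨q, p, hp, hq1, hq2⟩, 1, fun hq => hpx ?_⟩⟩
    have hq' : q = 1 := congrArg Subtype.val hq
    have := hq1 x (self_mem_orb P x)
    rw [hq'] at this
    exact this.symm
  have hc := (orbPart_isPGroup P x).center_nontrivial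
  have hcp : IsPGroup 2 ↥(Subgroup.center ↥(orbPart P x)) := (orbPart_isPGroup P x).to_subgroup _
  obtain ⟨k, hk⟩ := IsPGroup.iff_card.1 hcp
  have h2 : 2 ∣ Nat.card ↥(Subgroup.center ↥(orbPart P x)) := by
    have : 1 < Nat.card ↥(Subgroup.center ↥(orbPart P x)) := Finite.one_lt_card
    rw [hk] at this ⊢
    rcases k with _ | k
    · simp at this
    · exact dvd_pow_self 2 (Nat.succ_ne_zero k)
  obtain ⟨⟨⟨z, hz⟩, hzc⟩, hzo⟩ := exists_prime_orderOf_dvd_card' 2 h2
  have hzz : z * z = 1 := by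
    have h' := pow_orderOf_eq_one (⟨⟨z, hz⟩, hzc⟩ : ↥(Subgroup.center ↥(orbPart P x)))
    rw [hzo, pow_two] at h'
    exact congrArg (fun w : ↥(Subgroup.center ↥(orbPart P x)) => (w : ↥(orbPart P x)).1) h'
  have hzne : z ≠ 1 := by
    rintro rfl
    have : (⟨⟨1, hz⟩, hzc⟩ : ↥(Subgroup.center ↥(orbPart P x))) = 1 := rfl
    rw [this, orderOf_one] at hzo
    omega
  obtain ⟨p₀, hp₀, hz1, hz2⟩ := id hz
  have hcomm : ∀ p ∈ P, p * z = z * p := by
    intro p hp
    obtain ⟨q, -, hq1, hq2⟩ := exists_restrict P x hp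
    have hqz : q * z = z * q :=
      congrArg Subtype.val (Subgroup.mem_center_iff.1 hzc ⟨q, p, hp, hq1, hq2⟩)
    ext y
    by_cases hy : y ∈ orb P x
    · have := congrFun (congrArg DFunLike.coe hqz) y
      simp only [Perm.mul_apply] at this ⊢
      have hzy : z y ∈ orb P x := by rw [hz1 y hy]; exact (apply_mem_orb P hp₀).2 hy
      rw [hq1 y hy, hq1 _ hzy] at this
      exact this
    · have hpy : p y ∉ orb P x := fun hh => hy ((apply_mem_orb P hp).1 hh)
      simp only [Perm.mul_apply]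
      rw [hz2 y hy, hz2 _ hpy]
  refine ⟨z, orbPart_le P x hz, hzz, hcomm, fun y hy hfix => hzne ?_, hz2⟩
  ext u
  by_cases hu : u ∈ orb P x
  · rw [← orb_eq_of_mem P hy] at hu
    obtain ⟨p, hp, rfl⟩ := hu
    have := congrFun (congrArg DFunLike.coe (hcomm p hp)) y
    simp only [Perm.mul_apply] at this
    rw [hfix] at this
    exact this.symm
  · exact hz2 u hu

/-- The elementary abelian group attached to a central involution. -/
def pairGroup (z : Perm Ω) (hz : z * z = 1) : Subgroup (Perm Ω) where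
  carrier := {e | e * z = z * e ∧ ∀ y, e y = y ∨ e y = z y}
  one_mem' := ⟨by simp, fun y => Or.inl rfl⟩
  mul_mem' := by
    rintro e f ⟨he, he'⟩ ⟨hf, hf'⟩
    refine ⟨by rw [mul_assoc, hf, ← mul_assoc, he, mul_assoc], fun y => ?_⟩
    simp only [Perm.mul_apply]
    rcases hf' y with h | h <;> rw [h]
    · exact he' y
    · have := congrFun (congrArg DFunLike.coe he) y
      simp only [Perm.mul_apply] at this
      rw [this]
      rcases he' y with h2 | h2 <;> rw [h2]
      · exact Or.inr rfl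
      · have := congrFun (congrArg DFunLike.coe hz) y
        simp only [Perm.mul_apply, Perm.one_apply] at this
        exact Or.inl this
  inv_mem' := by
    rintro e ⟨he, he'⟩
    have hee : e * e = 1 := by
      ext y
      simp only [Perm.mul_apply, Perm.one_apply]
      rcases he' y with h | h
      · rw [h, h]
      · rw [h]
        have h1 := congrFun (congrArg DFunLike.coe he) y
        have h2 := congrFun (congrArg DFunLike.coe hz) y
        simp only [Perm.mul_apply, Perm.one_apply] at h1 h2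
        rw [h1, h, h2]
    have : e⁻¹ = e := inv_eq_of_mul_eq_one_right hee
    rw [this]
    exact ⟨he, he'⟩

theorem pairGroup_le {z : Perm Ω} (hz : z * z = 1) (hc : ∀ p ∈ P, p * z = z * p) :
    pairGroup z hz ≤ P := by
  apply le_sylow_of_normalized P
  · rintro ⟨e, he, he'⟩
    refine ⟨1, Subtype.ext ?_⟩
    show e ^ (2 ^ 1) = 1
    ext y
    rw [pow_one, pow_two, Perm.mul_apply, Perm.one_apply]
    rcases he' y with h | h
    · rw [h, h]
    · rw [h]
      have h1 := congrFun (congrArg DFunLike.coe he) y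
      have h2 := congrFun (congrArg DFunLike.coe hz) y
      simp only [Perm.mul_apply, Perm.one_apply] at h1 h2
      rw [h1, h, h2]
  · rintro g hg e ⟨he, he'⟩
    have hgi := hc g⁻¹ (P.inv_mem hg)
    refine ⟨?_, fun y => ?_⟩
    · calc g * e * g⁻¹ * z = g * (e * z) * g⁻¹ := by rw [mul_assoc (g * e), hgi]; group
        _ = g * z * e * g⁻¹ := by rw [he]; group
        _ = z * (g * e * g⁻¹) := by rw [hc g hg]; group
    · simp only [Perm.mul_apply]
      rcases he' (g⁻¹ y) with h | h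
      · left; rw [h]; simp
      · right
        rw [h]
        have h1 := congrFun (congrArg DFunLike.coe (hc g hg)) (g⁻¹ y)
        simp only [Perm.mul_apply] at h1
        rw [h1]; simp

theorem swap_apply_mem {z : Perm Ω} (hz : z * z = 1) (hc : ∀ p ∈ P, p * z = z * p) (y : Ω) :
    Equiv.swap y (z y) ∈ P := by
  apply pairGroup_le P hz hc
  have hzz : ∀ u, z (z u) = u := fun u => by
    have h2 := congrFun (congrArg DFunLike.coe hz) u
    simpa using h2
  refine ⟨?_, fun u => ?_⟩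
  · ext u
    simp only [Perm.mul_apply]
    rw [Equiv.swap_apply_def, Equiv.swap_apply_def]
    split_ifs <;> grind
  · rcases eq_or_ne u y with rfl | h1
    · right; simp
    · rcases eq_or_ne u (z y) with rfl | h2
      · right; simp [hzz]
      · left; exact Equiv.swap_apply_of_ne_of_ne h1 h2

/-- Every moved point lies on a transposition of `P`. -/
theorem exists_swap_mem {x : Ω} (h : Moved P x) : ∃ y, y ≠ x ∧ Equiv.swap x y ∈ P := by
  obtain ⟨z, -, hz, hc, hne, -⟩ := exists_central P h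
  exact ⟨z x, hne x (self_mem_orb P x), swap_apply_mem P hz hc x⟩

/-- Two transpositions of `P` through one point are equal. -/
theorem swap_unique {x y y' : Ω} (hy : y ≠ x) (hy' : y' ≠ x) (h : Equiv.swap x y ∈ P)
    (h' : Equiv.swap x y' ∈ P) : y = y' := by
  by_contra hne
  have h3 : (Equiv.swap x y * Equiv.swap x y').IsThreeCycle :=
    Perm.isThreeCycle_swap_mul_swap_same hy.symm hy'.symm hne
  obtain ⟨k, hk⟩ := P.isPGroup' ⟨_, P.mul_mem h h'⟩
  have hk' : (Equiv.swap x y * Equiv.swap x y') ^ (2 ^ k) = 1 := congrArg Subtype.val hk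
  have hd := orderOf_dvd_of_pow_eq_one hk'
  rw [h3.orderOf] at hd
  have := Nat.Prime.dvd_of_dvd_pow Nat.prime_three hd
  omega

theorem swap_mem_orb {x y : Ω} (h : Equiv.swap x y ∈ P) : y ∈ orb P x :=
  ⟨_, h, Equiv.swap_apply_left x y⟩

/-- At most one point is fixed. -/
theorem not_moved_unique {a b : Ω} (ha : ¬ Moved P a) (hb : ¬ Moved P b) : a = b := by
  by_contra hab
  have hfix : ∀ p ∈ P, p a = a ∧ p b = b := fun p hp =>
    ⟨by by_contra h; exact ha ⟨p, hp, h⟩, by by_contra h; exact hb ⟨p, hp, h⟩⟩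
  have hsw : Equiv.swap a b ∈ P := by
    refine le_sylow_of_normalized P (Subgroup.zpowers (Equiv.swap a b)) ?_ ?_ (Subgroup.mem_zpowers _)
    · rintro ⟨e, j, rfl⟩
      refine ⟨1, Subtype.ext ?_⟩
      show ((Equiv.swap a b) ^ j) ^ (2 ^ 1) = 1
      rw [pow_one, pow_two, ← (Commute.refl (Equiv.swap a b)).mul_zpow, Equiv.swap_mul_self, one_zpow]
    · rintro g hg e ⟨j, rfl⟩
      refine ⟨j, ?_⟩
      rw [← conj_zpow, ← Equiv.swap_apply_apply, (hfix g hg).1, (hfix g hg).2]
  have := (hfix _ hsw).1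
  rw [Equiv.swap_apply_left] at this
  exact hab this.symm

/-- An invariant set whose size is not divisible by `2 ^ (v + 1)` contains an orbit of size
dividing `2 ^ v`. -/
theorem exists_mem_small_orbit (v : ℕ) : ∀ (U : Set Ω), (∀ p ∈ P, ∀ y ∈ U, p y ∈ U) →
    ¬ 2 ^ (v + 1) ∣ U.ncard → ∃ a ∈ U, (orb P a).ncard ∣ 2 ^ v := by
  intro U
  induction h : U.ncard using Nat.strong_induction_on generalizing U with
  | _ N ih =>
    intro hinv hdvd
    obtain ⟨a, ha⟩ : U.Nonempty := by
      by_contra h0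
      rw [Set.not_nonempty_iff_eq_empty.1 h0, Set.ncard_empty] at h
      exact hdvd (h ▸ dvd_zero _)
    by_cases hsmall : (orb P a).ncard ∣ 2 ^ v
    · exact ⟨a, ha, hsmall⟩
    have hsub : orb P a ⊆ U := by
      rintro y ⟨p, hp, rfl⟩; exact hinv p hp a ha
    obtain ⟨k, hk⟩ := exists_ncard_orb P a
    have hbig : 2 ^ (v + 1) ∣ (orb P a).ncard := by
      rw [hk] at hsmall ⊢
      rw [Nat.pow_dvd_pow_iff_le_right (by norm_num)] at hsmall
      exact pow_dvd_pow 2 (by omega)
    have hsum := Set.ncard_sdiff_add_ncard_of_subset hsub (Set.toFinite U)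
    have hpos : 0 < (orb P a).ncard := by rw [hk]; positivity
    have hlt : (U \ orb P a).ncard < N := by omega
    obtain ⟨b, hb, hb'⟩ := ih _ hlt (U \ orb P a) rfl
      (fun p hp y hy => ⟨hinv p hp y hy.1, fun hh => hy.2 ((apply_mem_orb P hp).1 hh)⟩)
      (fun hd => hdvd (by rw [← h, ← hsum]; exact dvd_add hd hbig))
    exact ⟨b, hb.1, hb'⟩

/-- An orbit whose size divides the degree has size equal to the 2-part of the degree, and the
stabilizer of a point in it is a Sylow subgroup of the stabilizer. -/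
theorem stab_index_odd {a : Ω} (hdvd : (orb P a).ncard ∣ Fintype.card Ω) :
    ¬ 2 * (orb P a).ncard ∣ Fintype.card Ω ∧
      ¬ 2 ∣ (P : Subgroup (Perm Ω)).relIndex (MulAction.stabilizer (Perm Ω) a) := by
  classical
  have : Fact (Nat.Prime 2) := ⟨Nat.prime_two⟩
  have : Nonempty Ω := ⟨a⟩
  obtain ⟨j, hj⟩ := exists_ncard_orb P a
  obtain ⟨m, hn⟩ := hdvd
  rw [hj] at hn ⊢
  set St := MulAction.stabilizer (Perm Ω) a with hSt
  have h1 : ((P : Subgroup (Perm Ω)) ⊓ St).relIndex (P : Subgroup (Perm Ω)) = 2 ^ j := by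
    rw [← hj, orb_eq_orbit, ← Nat.card_coe_set_eq,
      ← Nat.card_congr (MulAction.orbitEquivQuotientStabilizer ↥(P : Subgroup (Perm Ω)) a).symm]
    rw [Subgroup.inf_relIndex_left, Subgroup.relIndex, Subgroup.index]
    congr 2
  have hstab : St.index = Fintype.card Ω := by
    rw [hSt, MulAction.index_stabilizer_of_transitive, Nat.card_eq_fintype_card]
  have h2 : 2 ^ j * (P : Subgroup (Perm Ω)).index =
      ((P : Subgroup (Perm Ω)) ⊓ St).relIndex St * Fintype.card Ω := by
    rw [← h1, Subgroup.relIndex_mul_index inf_le_left, ← hstab,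
      Subgroup.relIndex_mul_index inf_le_right]
  have hPodd : ¬ 2 ∣ (P : Subgroup (Perm Ω)).index := P.not_dvd_index
  have h3 : (P : Subgroup (Perm Ω)).index = ((P : Subgroup (Perm Ω)) ⊓ St).relIndex St * m := by
    apply Nat.eq_of_mul_eq_mul_left (show 0 < 2 ^ j by positivity)
    rw [h2, hn]; ring
  refine ⟨fun hd => hPodd ?_, fun hd => hPodd ?_⟩
  · rw [hn, mul_comm 2] at hd
    have hm : 2 ∣ m := Nat.dvd_of_mul_dvd_mul_left (by positivity) hd
    rw [h3]; exact Dvd.dvd.mul_left hm _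
  · rw [h3, Subgroup.inf_relIndex_right]; exact Dvd.dvd.mul_right hd m

theorem exists_small_orbit [Nonempty Ω] : ∃ a : Ω, (orb P a).ncard ∣ Fintype.card Ω := by
  obtain ⟨v, m, hm, hn⟩ := Nat.exists_eq_two_pow_mul_odd (Fintype.card_pos (α := Ω)).ne'
  obtain ⟨a, -, ha⟩ := exists_mem_small_orbit P v Set.univ (fun _ _ _ _ => Set.mem_univ _) (by
    rw [Set.ncard_univ, Nat.card_eq_fintype_card, hn, pow_succ]
    intro h
    have h2 : 2 ∣ m := Nat.dvd_of_mul_dvd_mul_left (by positivity) h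
    exact Nat.not_even_iff_odd.2 hm (even_iff_two_dvd.2 h2))
  exact ⟨a, ha.trans (hn ▸ dvd_mul_right _ _)⟩

theorem ofSubtype_ne_apply_self {a : Ω} (q : Perm {x : Ω // x ≠ a}) : Perm.ofSubtype q a = a :=
  Perm.ofSubtype_apply_of_not_mem q (by simp)

theorem exists_preimage {a : Ω} {p : Perm Ω} (ha : p a = a) :
    ∃ q : Perm {x : Ω // x ≠ a}, Perm.ofSubtype q = p := by
  have h : ∀ x, p x ≠ a ↔ x ≠ a := fun x => by
    constructor
    · rintro h rfl; exact h ha
    · intro h h'; exact h (p.injective (h'.trans ha.symm))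
  exact ⟨p.subtypePerm h, Perm.ofSubtype_subtypePerm _ (fun x hx hxa => hx (hxa ▸ ha))⟩

/-- The Sylow subgroup of the symmetric group on the points other than `a`. -/
noncomputable def stabSylow {a : Ω} (hdvd : (orb P a).ncard ∣ Fintype.card Ω) :
    Sylow 2 (Perm {x : Ω // x ≠ a}) :=
  haveI : Fact (Nat.Prime 2) := ⟨Nat.prime_two⟩
  IsPGroup.toSylow (P.isPGroup'.comap_of_injective _ Perm.ofSubtype_injective :
      IsPGroup 2 ↥((P : Subgroup (Perm Ω)).comap Perm.ofSubtype)) (by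
    rw [Subgroup.index_comap]
    have hr : (Perm.ofSubtype : Perm {x : Ω // x ≠ a} →* Perm Ω).range =
        MulAction.stabilizer (Perm Ω) a := by
      ext p
      simp only [MonoidHom.mem_range, MulAction.mem_stabilizer_iff, Perm.smul_def]
      exact ⟨fun ⟨q, hq⟩ => hq ▸ ofSubtype_ne_apply_self q, exists_preimage⟩
    rw [hr]
    exact (stab_index_odd P hdvd).2)

theorem mem_stabSylow {a : Ω} (hdvd : (orb P a).ncard ∣ Fintype.card Ω)
    {q : Perm {x : Ω // x ≠ a}} : q ∈ stabSylow P hdvd ↔ Perm.ofSubtype q ∈ P :=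
  Iff.rfl

theorem image_orb_stabSylow {a : Ω} (hdvd : (orb P a).ncard ∣ Fintype.card Ω)
    (x : {x : Ω // x ≠ a}) (ha : a ∉ orb P x.1) :
    Subtype.val '' orb (stabSylow P hdvd) x = orb P x.1 := by
  ext y
  constructor
  · rintro ⟨_, ⟨q, hq, rfl⟩, rfl⟩
    exact ⟨_, (mem_stabSylow P hdvd).1 hq, Perm.ofSubtype_apply_coe q x⟩
  · rintro ⟨p, hp, rfl⟩
    obtain ⟨r, hr, hr1, hr2⟩ := exists_restrict P x.1 hp
    obtain ⟨q, hq⟩ := exists_preimage (hr2 a ha)
    refine ⟨q x, ⟨q, (mem_stabSylow P hdvd).2 (hq.symm ▸ hr), rfl⟩, ?_⟩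
    rw [← Perm.ofSubtype_apply_coe q x, hq, hr1 _ (self_mem_orb P x.1)]

theorem disjoint_orb {x y : Ω} (h : y ∉ orb P x) : Disjoint (orb P x) (orb P y) :=
  Set.disjoint_left.2 fun _ h1 h2 => h (by
    rw [← orb_eq_of_mem P h1, orb_eq_of_mem P h2]; exact self_mem_orb P y)

universe u in
theorem orb_size_injective_aux (n : ℕ) : ∀ {α : Type u} [Fintype α] [DecidableEq α]
    (Q : Sylow 2 (Perm α)), Fintype.card α = n →
    ∀ x y : α, (orb Q x).ncard = (orb Q y).ncard → y ∈ orb Q x := by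
  induction n using Nat.strong_induction_on with
  | _ n ih =>
    intro α _ _ Q hn x y hxy
    by_contra hy
    have : Nonempty α := ⟨x⟩
    have hx : x ∉ orb Q y := fun h => hy (by rw [orb_eq_of_mem Q h]; exact self_mem_orb Q y)
    obtain ⟨a, hdvd, hax, hay⟩ : ∃ a, (orb Q a).ncard ∣ Fintype.card α ∧ a ∉ orb Q x ∧
        a ∉ orb Q y := by
      obtain ⟨a₀, ha₀⟩ := exists_small_orbit Q
      by_cases hout : a₀ ∉ orb Q x ∧ a₀ ∉ orb Q y
      · exact ⟨a₀, ha₀, hout⟩
      have hs : (orb Q a₀).ncard = (orb Q x).ncard := by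
        rw [not_and_or, not_not, not_not] at hout
        rcases hout with h | h
        · rw [orb_eq_of_mem Q h]
        · rw [orb_eq_of_mem Q h, hxy]
      have hv := (stab_index_odd Q ha₀).1
      obtain ⟨j, hj⟩ := exists_ncard_orb Q a₀
      rw [hj] at hv ha₀
      set U : Set α := (orb Q x ∪ orb Q y)ᶜ with hU
      have hcard : U.ncard + 2 * 2 ^ j = Fintype.card α := by
        rw [← Nat.card_eq_fintype_card, ← Set.ncard_compl_add_ncard (orb Q x ∪ orb Q y),
          Set.ncard_union_eq (disjoint_orb Q hy), ← hxy, ← hs, hj, hU]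
        omega
      obtain ⟨a, ha, ha'⟩ := exists_mem_small_orbit Q j U (by
          rintro p hp z hz (h | h)
          · exact hz (Or.inl ((apply_mem_orb Q hp).1 h))
          · exact hz (Or.inr ((apply_mem_orb Q hp).1 h)))
        (fun hd => hv (by
          rw [← hcard]; exact dvd_add (by rw [← pow_succ']; exact hd) dvd_rfl))
      exact ⟨a, ha'.trans ha₀, fun h => ha (Or.inl h), fun h => ha (Or.inr h)⟩
    have hlt : Fintype.card {z : α // z ≠ a} < n := by
      rw [← hn]; exact Fintype.card_subtype_lt (x := a) (by simp)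
    have hxa : x ≠ a := fun h => hax (h ▸ self_mem_orb Q x)
    have hya : y ≠ a := fun h => hay (h ▸ self_mem_orb Q y)
    have e1 := image_orb_stabSylow Q hdvd ⟨x, hxa⟩ hax
    have e2 := image_orb_stabSylow Q hdvd ⟨y, hya⟩ hay
    have heq := ih _ hlt (stabSylow Q hdvd) rfl ⟨x, hxa⟩ ⟨y, hya⟩ (by
      rw [← Set.ncard_image_of_injective _ Subtype.val_injective, e1,
        ← Set.ncard_image_of_injective (orb (stabSylow Q hdvd) ⟨y, hya⟩) Subtype.val_injective, e2,
        hxy])
    exact hy (e1 ▸ Set.mem_image_of_mem Subtype.val heq)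

/-- Different orbits of a Sylow 2-subgroup of a symmetric group have different sizes. -/
theorem orb_size_injective {x y : Ω} (h : (orb P x).ncard = (orb P y).ncard) : y ∈ orb P x :=
  orb_size_injective_aux _ P rfl x y h

theorem normalizer_aux_mem {g : Perm Ω} (hg : ∀ p, p ∈ P ↔ g * p * g⁻¹ ∈ P) (x : Ω) :
    g x ∈ orb P x := by
  apply orb_size_injective
  have : g '' orb P x = orb P (g x) := by
    ext y
    constructor
    · rintro ⟨_, ⟨p, hp, rfl⟩, rfl⟩
      exact ⟨g * p * g⁻¹, (hg p).1 hp, by simp [Perm.mul_apply]⟩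
    · rintro ⟨p, hp, rfl⟩
      refine ⟨(g⁻¹ * p * g) x, ⟨g⁻¹ * p * g, (hg _).2 (by simpa [mul_assoc] using hp), rfl⟩, ?_⟩
      simp [Perm.mul_apply]
  rw [← this, Set.ncard_image_of_injective _ g.injective]

universe u in
theorem normalizer_aux (n : ℕ) : ∀ {α : Type u} [Fintype α] [DecidableEq α]
    (Q : Sylow 2 (Perm α)), Fintype.card α = n →
    ∀ g : Perm α, (∀ p, p ∈ Q ↔ g * p * g⁻¹ ∈ Q) → g ∈ Q := by
  induction n using Nat.strong_induction_on with
  | _ n ih =>
    intro α _ _ Q hn g hg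
    rcases isEmpty_or_nonempty α with hα | hα
    · rw [Subsingleton.elim g 1]; exact Q.one_mem
    obtain ⟨a, ha⟩ := exists_small_orbit Q
    obtain ⟨p, hp, hpa⟩ := normalizer_aux_mem Q hg a
    have hh : (p⁻¹ * g) a = a := by simp [Perm.mul_apply, ← hpa]
    obtain ⟨q, hq⟩ := exists_preimage hh
    have hlt : Fintype.card {z : α // z ≠ a} < n := by
      rw [← hn]; exact Fintype.card_subtype_lt (x := a) (by simp)
    have hq' := ih _ hlt (stabSylow Q ha) rfl q (fun r => by
      rw [mem_stabSylow, mem_stabSylow, map_mul, map_mul, map_inv, hq, hg]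
      have h3 : p⁻¹ * g * Perm.ofSubtype r * (p⁻¹ * g)⁻¹ =
          p⁻¹ * (g * Perm.ofSubtype r * g⁻¹) * p := by group
      rw [h3]
      refine ⟨fun h => Q.mul_mem (Q.mul_mem (Q.inv_mem hp) h) hp, fun h => ?_⟩
      have := Q.mul_mem (Q.mul_mem hp h) (Q.inv_mem hp)
      have h4 : p * (p⁻¹ * (g * Perm.ofSubtype r * g⁻¹) * p) * p⁻¹ = g * Perm.ofSubtype r * g⁻¹ := by
        group
      rw [h4] at this
      exact this)
    rw [mem_stabSylow, hq] at hq'
    have := Q.mul_mem hp hq'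
    rw [mul_inv_cancel_left] at this
    exact this

/-- A Sylow 2-subgroup of a symmetric group is self-normalizing. -/
theorem sylow_normalizer_eq : Subgroup.normalizer ((P : Subgroup (Perm Ω)) : Set (Perm Ω)) = P := by
  refine le_antisymm (fun g hg => ?_) Subgroup.le_normalizer
  exact normalizer_aux _ P rfl g (fun p => Subgroup.mem_normalizer_iff.1 hg p)

end Cfsg.Agent.Lib.Alt
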