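/-
Sylow 2-subgroups of alternating groups.
-/
import Cfsg.Agent.Lib.Alt.Sylow2

set_option autoImplicit false
set_option linter.unusedSectionVars false

open Equiv MulAction

namespace Cfsg.Agent.Lib.Alt

variable {Ω : Type*} [Fintype Ω] [DecidableEq Ω]
variable (P : Sylow 2 (Perm Ω))

/-- Every Sylow 2-subgroup of the alternating group is the trace of one of the symmetric group. -/
theorem exists_sylow_eq_subgroupOf (R : Sylow 2 ↥(alternatingGroup Ω)) :
    ∃ P : Sylow 2 (Perm Ω), ∀ g : ↥(alternatingGroup Ω), g ∈ R ↔ (g : Perm Ω) ∈ P := by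
  obtain ⟨P, hP⟩ := (R.isPGroup'.map (alternatingGroup Ω).subtype).exists_le_sylow
  refine ⟨P, fun g => ⟨fun hg => hP ⟨g, hg, rfl⟩, fun hg => ?_⟩⟩
  have h2 : IsPGroup 2 ↥((P : Subgroup (Perm Ω)).subgroupOf (alternatingGroup Ω)) :=
    P.isPGroup'.comap_of_injective _ Subtype.val_injective
  have := R.is_maximal' h2 (fun r hr => hP ⟨r, hr, rfl⟩)
  exact this.le hg

theorem sign_swap_mul_swap {a b c d : Ω} (hab : a ≠ b) (hcd : c ≠ d) :
    Equiv.swap a b * Equiv.swap c d ∈ alternatingGroup Ω := by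
  simp [hab, hcd]

theorem mul_swap_mem_alt {p : Perm Ω} (hp : p ∉ alternatingGroup Ω) {a b : Ω} (hab : a ≠ b) :
    p * Equiv.swap a b ∈ alternatingGroup Ω := by
  rw [Perm.mem_alternatingGroup] at hp ⊢
  rcases Int.units_eq_one_or (Perm.sign p) with h | h
  · exact absurd h hp
  · simp [h, Perm.sign_swap hab]

/-- A matched point avoiding two given points, when there are at least four points. -/
theorem exists_pair_avoiding (s : Finset Ω) (hs : s.card + 2 ≤ Fintype.card Ω)
    (hclosed : ∀ x y : Ω, y ≠ x → Equiv.swap x y ∈ P → x ∈ s → y ∈ s) :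
    ∃ u v, v ≠ u ∧ Equiv.swap u v ∈ P ∧ u ∉ s ∧ v ∉ s := by
  classical
  have h1 : 1 < (Finset.univ \ s).card := by
    rw [Finset.card_univ_sdiff]; omega
  obtain ⟨u, hu, w, hw, huw⟩ := Finset.one_lt_card.1 h1
  simp only [Finset.mem_sdiff, Finset.mem_univ, true_and] at hu hw
  obtain ⟨u, hu, hmv⟩ : ∃ u, u ∉ s ∧ Moved P u := by
    by_cases h : Moved P u
    · exact ⟨u, hu, h⟩
    · exact ⟨w, hw, by
        by_contra h'
        exact huw (not_moved_unique P h h')⟩
  obtain ⟨v, hv, hsw⟩ := exists_swap_mem P hmv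
  exact ⟨u, v, hv, hsw, hu, fun hvs => hu (hclosed v u hv.symm (by rwa [Equiv.swap_comm]) hvs)⟩

theorem moved_of_swap_mem {x y : Ω} (hy : y ≠ x) (h : Equiv.swap x y ∈ P) : Moved P x :=
  ⟨_, h, by rwa [Equiv.swap_apply_left]⟩

theorem pair_closed {x y : Ω} (hy : y ≠ x) (h : Equiv.swap x y ∈ P) :
    ∀ a b : Ω, b ≠ a → Equiv.swap a b ∈ P → a ∈ ({x, y} : Finset Ω) → b ∈ ({x, y} : Finset Ω) := by
  intro a b hb hsw ha
  simp only [Finset.mem_insert, Finset.mem_singleton] at ha ⊢
  rcases ha with rfl | rfl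
  · exact Or.inr (swap_unique P hb hy hsw h)
  · exact Or.inl (swap_unique P hb hy.symm hsw (by rwa [Equiv.swap_comm]))

/-- Elements commuting with the even part of `P` fix every pair. -/
theorem central_pair (hn : 6 ≤ Fintype.card Ω) {c : Perm Ω}
    (hc : ∀ s ∈ P, s ∈ alternatingGroup Ω → s * c = c * s)
    {x y : Ω} (hy : y ≠ x) (h : Equiv.swap x y ∈ P) : c x = x ∨ c x = y := by
  classical
  obtain ⟨u, v, huv, hsuv, hu, hv⟩ := exists_pair_avoiding P {x, y}
    (by have := Finset.card_le_two (a := x) (b := y); omega) (pair_closed P hy h)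
  obtain ⟨u', v', huv', hsuv', hu', hv'⟩ := exists_pair_avoiding P ({x, y} ∪ {u, v})
    (by
      have := Finset.card_le_two (a := x) (b := y)
      have := Finset.card_le_two (a := u) (b := v)
      have := Finset.card_union_le ({x, y} : Finset Ω) {u, v}
      omega)
    (fun a b hb hsw ha => by
      rcases Finset.mem_union.1 ha with ha | ha
      · exact Finset.mem_union_left _ (pair_closed P hy h a b hb hsw ha)
      · exact Finset.mem_union_right _ (pair_closed P huv hsuv a b hb hsw ha))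
  simp only [Finset.mem_insert, Finset.mem_singleton, Finset.mem_union, not_or] at hu hv hu' hv'
  have key : ∀ u v : Ω, v ≠ u → Equiv.swap u v ∈ P → x ≠ u → x ≠ v → y ≠ u → y ≠ v →
      c x = x ∨ c x = y ∨ c x = u ∨ c x = v := by
    intro u v huv hs h1 h2 h3 h4
    have h5 := congrFun (congrArg DFunLike.coe
      (hc (Equiv.swap x y * Equiv.swap u v) (P.mul_mem h hs) (sign_swap_mul_swap hy.symm huv.symm))) x
    simp only [Perm.mul_apply] at h5
    by_contra hh
    simp only [not_or] at hh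
    rw [Equiv.swap_apply_of_ne_of_ne h1 h2, Equiv.swap_apply_left,
      Equiv.swap_apply_of_ne_of_ne hh.2.2.1 hh.2.2.2, Equiv.swap_apply_of_ne_of_ne hh.1 hh.2.1] at h5
    exact hy (c.injective h5).symm
  rcases key u v huv hsuv (Ne.symm hu.1) (Ne.symm hv.1) (Ne.symm hu.2) (Ne.symm hv.2) with h1 | h1 | h1 | h1
  · exact Or.inl h1
  · exact Or.inr h1
  all_goals
    rcases key u' v' huv' hsuv' (Ne.symm hu'.1.1) (Ne.symm hv'.1.1) (Ne.symm hu'.1.2)
      (Ne.symm hv'.1.2) with h2 | h2 | h2 | h2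
    · exact Or.inl h2
    · exact Or.inr h2
    all_goals grind

theorem sign_of_involution {z : Perm Ω} (hz : z * z = 1) :
    ∃ k, z.support.card = 2 * k ∧ (Perm.sign z = 1 ↔ Even k) := by
  by_cases h1 : z = 1
  · subst h1; exact ⟨0, by simp, by simp⟩
  obtain ⟨k, hk⟩ := Perm.cycleType_prime_order (σ := z) (by
    rw [orderOf_eq_prime_iff.2 ⟨by rw [pow_two]; exact hz, h1⟩]; exact Nat.prime_two)
  rw [orderOf_eq_prime_iff.2 ⟨by rw [pow_two]; exact hz, h1⟩] at hk
  refine ⟨k + 1, ?_, ?_⟩
  · rw [← Perm.sum_cycleType, hk]; simp; ring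
  · rw [Perm.sign_of_cycleType, hk]
    simp only [Multiset.sum_replicate, Multiset.card_replicate, smul_eq_mul]
    rw [neg_one_pow_eq_one_iff_even (by decide)]
    constructor <;> intro h <;> [skip; exact Even.add (Even.mul_left (by norm_num) _) h]
    exact (Nat.even_add.1 h).1 (Even.mul_left (by norm_num) _)

/-- For degree at least six, a permutation normalizing the even part of a Sylow 2-subgroup of the
symmetric group lies in that Sylow subgroup. -/
theorem mem_of_normalizes_even (hn : 6 ≤ Fintype.card Ω) {g : Perm Ω}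
    (hg : ∀ s, s ∈ P → s ∈ alternatingGroup Ω → g * s * g⁻¹ ∈ P)
    (hg' : ∀ s, s ∈ P → s ∈ alternatingGroup Ω → g⁻¹ * s * g ∈ P) : g ∈ P := by
  classical
  have hA : ∀ (h s : Perm Ω), s ∈ alternatingGroup Ω → h * s * h⁻¹ ∈ alternatingGroup Ω := by
    intro h s hs
    rw [Perm.mem_alternatingGroup] at hs ⊢
    simp [hs]
  have hA' : ∀ (h s : Perm Ω), s ∈ alternatingGroup Ω → h⁻¹ * s * h ∈ alternatingGroup Ω := by
    intro h s hs
    simpa using hA h⁻¹ s hs
  let Z : Set (Perm Ω) := {c | c ∈ P ∧ c ∈ alternatingGroup Ω ∧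
    ∀ s ∈ P, s ∈ alternatingGroup Ω → s * c = c * s}
  have hZ : ∀ c ∈ Z, g * c * g⁻¹ ∈ Z := by
    rintro c ⟨hcP, hcA, hc⟩
    refine ⟨hg c hcP hcA, hA g c hcA, fun s hs hsA => ?_⟩
    have h := hc _ (hg' s hs hsA) (hA' g s hsA)
    calc s * (g * c * g⁻¹) = g * ((g⁻¹ * s * g) * c) * g⁻¹ := by group
      _ = g * (c * (g⁻¹ * s * g)) * g⁻¹ := by rw [h]
      _ = g * c * g⁻¹ * s := by group
  have hZ' : ∀ c ∈ Z, g⁻¹ * c * g ∈ Z := by
    rintro c ⟨hcP, hcA, hc⟩
    refine ⟨hg' c hcP hcA, hA' g c hcA, fun s hs hsA => ?_⟩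
    have h := hc _ (hg s hs hsA) (hA g s hsA)
    calc s * (g⁻¹ * c * g) = g⁻¹ * ((g * s * g⁻¹) * c) * g := by group
      _ = g⁻¹ * (c * (g * s * g⁻¹)) * g := by rw [h]
      _ = g⁻¹ * c * g * s := by group
  let T : Set Ω := {x | ∃ c ∈ Z, c x ≠ x}
  have hT : ∀ x, g x ∈ T ↔ x ∈ T := by
    intro x
    constructor
    · rintro ⟨c, hc, hcx⟩
      refine ⟨_, hZ' c hc, ?_⟩
      intro h
      apply hcx
      have := congrArg g h
      simpa [Perm.mul_apply] using this
    · rintro ⟨c, hc, hcx⟩
      refine ⟨_, hZ c hc, ?_⟩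
      simp only [Perm.mul_apply, ne_eq]
      simpa using hcx
  -- moved points are moved by even elements
  have hmoved_even : ∀ x y, y ≠ x → Equiv.swap x y ∈ P →
      ∃ s ∈ P, s ∈ alternatingGroup Ω ∧ s x = y := by
    intro x y hy h
    obtain ⟨u, v, huv, hsuv, hu, hv⟩ := exists_pair_avoiding P {x, y}
      (by have := Finset.card_le_two (a := x) (b := y); omega) (pair_closed P hy h)
    simp only [Finset.mem_insert, Finset.mem_singleton, not_or] at hu hv
    refine ⟨_, P.mul_mem h hsuv, sign_swap_mul_swap hy.symm huv.symm, ?_⟩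
    rw [Perm.mul_apply, Equiv.swap_apply_of_ne_of_ne (Ne.symm hu.1) (Ne.symm hv.1),
      Equiv.swap_apply_left]
  have hgmoved : ∀ x, Moved P x → Moved P (g x) := by
    intro x hx
    obtain ⟨y, hy, hsw⟩ := exists_swap_mem P hx
    obtain ⟨s, hs, hsA, hsx⟩ := hmoved_even x y hy hsw
    refine ⟨_, hg s hs hsA, ?_⟩
    simp [Perm.mul_apply, hsx, hy]
  -- main claim: g preserves the pairing
  have hpair : ∀ x y, y ≠ x → Equiv.swap x y ∈ P → Equiv.swap (g x) (g y) ∈ P := by
    intro x y hy hsw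
    have hgy : g y ≠ g x := g.injective.ne hy
    obtain ⟨w, hw, hsw'⟩ := exists_swap_mem P (hgmoved x (moved_of_swap_mem P hy hsw))
    by_cases hxT : x ∈ T
    · obtain ⟨c, hc, hcx⟩ := hxT
      have hcy : c x = y := (central_pair P hn hc.2.2 hy hsw).resolve_left hcx
      have hc' := hZ c hc
      have h1 : (g * c * g⁻¹) (g x) = g y := by simp [Perm.mul_apply, hcy]
      rcases central_pair P hn hc'.2.2 hw hsw' with h2 | h2
      · exact absurd (h1.symm.trans h2) hgy
      · rw [h1] at h2; rw [h2]; exact hsw'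
    · have hyT : y ∉ T := by
        rintro ⟨c, hc, hcy⟩
        apply hxT
        refine ⟨c, hc, fun hcx => ?_⟩
        rcases central_pair P hn hc.2.2 hy.symm (by rwa [Equiv.swap_comm]) with h | h
        · exact hcy h
        · exact hy.symm (c.injective (hcx.trans h.symm))
      -- the points outside T that are moved form one pair
      obtain ⟨z, hzP, hzz, hzc, hzne, hzfix⟩ := exists_central P (moved_of_swap_mem P hy hsw)
      have hzodd : z ∉ alternatingGroup Ω := fun hA0 =>
        hxT ⟨z, ⟨hzP, hA0, fun s hs _ => hzc s hs⟩, hzne x (self_mem_orb P x)⟩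
      have horb2 : (orb P x).ncard = 2 := by
        obtain ⟨k, hk, hk'⟩ := sign_of_involution hzz
        have hsupp : (z.support : Set Ω) = orb P x := by
          ext u
          simp only [Finset.mem_coe, Perm.mem_support]
          exact ⟨fun h => by by_contra h'; exact h (hzfix u h'), hzne u⟩
        rw [← hsupp, Set.ncard_coe_finset, hk]
        obtain ⟨j, hj⟩ := exists_ncard_orb P x
        rw [← hsupp, Set.ncard_coe_finset, hk] at hj
        have hkodd : ¬ Even k := fun h => hzodd (Perm.mem_alternatingGroup.2 (hk'.2 h))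
        rcases j with _ | _ | j
        · omega
        · omega
        · exact absurd (by rw [pow_succ] at hj; exact even_iff_two_dvd.2 ⟨2 ^ j, by rw [pow_succ] at hj; omega⟩) hkodd
      have hall : ∀ u, Moved P u → u ∉ T → u = x ∨ u = y := by
        intro u hu huT
        have huo : u ∈ orb P x := by
          by_contra huo
          obtain ⟨z', hz'P, hz'z, hz'c, hz'ne, hz'fix⟩ := exists_central P hu
          have hz'odd : z' ∉ alternatingGroup Ω := fun hA0 =>
            huT ⟨z', ⟨hz'P, hA0, fun s hs _ => hz'c s hs⟩, hz'ne u (self_mem_orb P u)⟩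
          have hxo : x ∉ orb P u := fun h => huo (by rw [orb_eq_of_mem P h]; exact self_mem_orb P u)
          apply hxT
          refine ⟨z * z', ⟨P.mul_mem hzP hz'P, ?_, fun s hs _ => ?_⟩, ?_⟩
          · rw [Perm.mem_alternatingGroup] at hzodd hz'odd ⊢
            rw [map_mul, (Int.units_eq_one_or _).resolve_left hzodd,
              (Int.units_eq_one_or _).resolve_left hz'odd]
            rfl
          · rw [← mul_assoc, hzc s hs, mul_assoc, hz'c s hs, mul_assoc]
          · rw [Perm.mul_apply, hz'fix x hxo]; exact hzne x (self_mem_orb P x)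
        have hsub : ({x, y} : Set Ω) = orb P x := by
          apply Set.eq_of_subset_of_ncard_le
          · rintro a (rfl | rfl)
            · exact self_mem_orb P _
            · exact swap_mem_orb P hsw
          · rw [horb2, Set.ncard_pair hy.symm]
          · exact Set.toFinite _
        rw [← hsub] at huo
        exact huo
      have hx' := hall (g x) (hgmoved x (moved_of_swap_mem P hy hsw)) (fun h => hxT ((hT x).1 h))
      have hy' := hall (g y)
        (hgmoved y (moved_of_swap_mem P hy.symm (by rwa [Equiv.swap_comm])))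
        (fun h => hyT ((hT y).1 h))
      rcases hx' with h1 | h1 <;> rcases hy' with h2 | h2
      · exact absurd (h2.trans h1.symm) hgy
      · rw [h1, h2]; exact hsw
      · rw [h1, h2, Equiv.swap_comm]; exact hsw
      · exact absurd (h2.trans h1.symm) hgy
  obtain ⟨u, v, huv, hsuv, -, -⟩ := exists_pair_avoiding P ∅ (by simp; omega) (by simp)
  have hfw : ∀ p ∈ P, g * p * g⁻¹ ∈ P := by
    intro p hp
    by_cases hpA : p ∈ alternatingGroup Ω
    · exact hg p hp hpA
    · have h1 := hg _ (P.mul_mem hp hsuv) (mul_swap_mem_alt hpA huv.symm)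
      have h2 := hpair u v huv hsuv
      rw [← Equiv.swap_mul_self_mul u v (g * p * g⁻¹)] at *
      have h3 : g * (p * Equiv.swap u v) * g⁻¹ * Equiv.swap (g u) (g v) = g * p * g⁻¹ := by
        rw [Equiv.swap_apply_apply]
        group
        simp [Equiv.swap_mul_self]
      rw [Equiv.swap_mul_self_mul, ← h3]
      exact P.mul_mem h1 h2
  have hN : g ∈ Subgroup.normalizer ((P : Subgroup (Perm Ω)) : Set (Perm Ω)) := by
    rw [Subgroup.mem_normalizer_iff]
    intro p
    refine ⟨hfw p, fun hp => ?_⟩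
    -- conjugation is injective on the finite set `P`
    have hmap : (P : Subgroup (Perm Ω)).map (MulAut.conj g).toMonoidHom = P := by
      apply Subgroup.eq_of_le_of_card_ge
      · rintro _ ⟨q, hq, rfl⟩; exact hfw q hq
      · rw [Subgroup.card_map_of_injective (MulAut.conj g).injective]
    rw [← hmap] at hp
    obtain ⟨q, hq, hqp⟩ := hp
    simp only [MulEquiv.coe_toMonoidHom, MulAut.conj_apply, mul_left_inj, mul_right_inj] at hqp
    exact hqp ▸ hq
  rw [sylow_normalizer_eq P] at hN
  exact hN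

/-- Sylow 2-subgroups of alternating groups of degree at least six are self-normalizing. -/
theorem alt_sylow_normalizer_eq (hn : 6 ≤ Fintype.card Ω) (R : Sylow 2 ↥(alternatingGroup Ω)) :
    Subgroup.normalizer ((R : Subgroup ↥(alternatingGroup Ω)) : Set ↥(alternatingGroup Ω)) = R := by
  obtain ⟨P, hP⟩ := exists_sylow_eq_subgroupOf R
  refine le_antisymm (fun g hg => ?_) Subgroup.le_normalizer
  rw [Subgroup.mem_normalizer_iff] at hg
  refine (hP g).2 (mem_of_normalizes_even P hn ?_ ?_)
  · intro s hs hsA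
    exact (hP _).1 ((hg ⟨s, hsA⟩).1 ((hP ⟨s, hsA⟩).2 hs))
  · intro s hs hsA
    have h0 := (hP ⟨s, hsA⟩).2 hs
    refine (hP (g⁻¹ * ⟨s, hsA⟩ * g)).1 ((hg _).2 ?_)
    rw [show g * (g⁻¹ * ⟨s, hsA⟩ * g) * g⁻¹ = (⟨s, hsA⟩ : ↥(alternatingGroup Ω)) by group]
    exact h0

end Cfsg.Agent.Lib.Alt
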