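/-
Automorphisms of alternating groups.
-/
import Mathlib

set_option autoImplicit false
set_option linter.unusedSectionVars false

open Equiv
local notation:10000 n "!" => Nat.factorial n

namespace Cfsg.Agent.Lib.Alt.Aut

variable {Ω : Type*} [Fintype Ω] [DecidableEq Ω]

/-- The cycle `a → b → c → a`. -/
def cyc (a b c : Ω) : Perm Ω := Equiv.swap a b * Equiv.swap b c

theorem cyc_apply {a b c : Ω} (hab : a ≠ b) (hac : a ≠ c) (hbc : b ≠ c) :
    cyc a b c a = b ∧ cyc a b c b = c ∧ cyc a b c c = a ∧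
      ∀ x, x ≠ a → x ≠ b → x ≠ c → cyc a b c x = x := by
  refine ⟨?_, ?_, ?_, fun x h1 h2 h3 => ?_⟩
  · rw [cyc, Perm.mul_apply, Equiv.swap_apply_of_ne_of_ne hab hac, Equiv.swap_apply_left]
  · rw [cyc, Perm.mul_apply, Equiv.swap_apply_left, Equiv.swap_apply_of_ne_of_ne hac.symm hbc.symm]
  · rw [cyc, Perm.mul_apply, Equiv.swap_apply_right, Equiv.swap_apply_right]
  · rw [cyc, Perm.mul_apply, Equiv.swap_apply_of_ne_of_ne h2 h3, Equiv.swap_apply_of_ne_of_ne h1 h2]

theorem cyc_isThreeCycle {a b c : Ω} (hab : a ≠ b) (hac : a ≠ c) (hbc : b ≠ c) :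
    (cyc a b c).IsThreeCycle := by
  rw [cyc, Equiv.swap_comm a b]
  exact Perm.isThreeCycle_swap_mul_swap_same hab.symm hbc hac

theorem cyc_mem (a b c : Ω) (hab : a ≠ b) (hac : a ≠ c) (hbc : b ≠ c) :
    cyc a b c ∈ alternatingGroup Ω :=
  (cyc_isThreeCycle hab hac hbc).mem_alternatingGroup

theorem conj_cyc (g : Perm Ω) (a b c : Ω) : g * cyc a b c * g⁻¹ = cyc (g a) (g b) (g c) := by
  rw [cyc, cyc, Equiv.swap_apply_apply, Equiv.swap_apply_apply]
  group

theorem cyc_rot {a b c : Ω} (hab : a ≠ b) (hac : a ≠ c) (hbc : b ≠ c) : cyc a b c = cyc b c a := by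
  obtain ⟨h1, h2, h3, h4⟩ := cyc_apply hab hac hbc
  obtain ⟨k1, k2, k3, k4⟩ := cyc_apply hbc hab.symm hac.symm
  ext x
  by_cases hx : x = a
  · subst hx; rw [h1, k3]
  by_cases hy : x = b
  · subst hy; rw [h2, k1]
  by_cases hz : x = c
  · subst hz; rw [h3, k2]
  rw [h4 x hx hy hz, k4 x hy hz hx]

theorem cyc_inv {a b c : Ω} (hab : a ≠ b) (hac : a ≠ c) (hbc : b ≠ c) :
    (cyc a b c)⁻¹ = cyc a c b := by
  obtain ⟨h1, h2, h3, h4⟩ := cyc_apply hab hac hbc
  obtain ⟨k1, k2, k3, k4⟩ := cyc_apply hac hab hbc.symm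
  apply inv_eq_of_mul_eq_one_left
  ext x
  rw [Perm.mul_apply, Perm.one_apply]
  by_cases hx : x = a
  · subst hx; rw [h1, k3]
  by_cases hy : x = b
  · subst hy; rw [h2, k2]
  by_cases hz : x = c
  · subst hz; rw [h3, k1]
  rw [h4 x hx hy hz, k4 x hx hz hy]

theorem eq_cyc {f : Perm Ω} (hf : f.IsThreeCycle) {x : Ω} (hx : f x ≠ x) :
    x ≠ f x ∧ x ≠ f (f x) ∧ f x ≠ f (f x) ∧ f (f (f x)) = x ∧ f = cyc x (f x) (f (f x)) := by
  have h3 : f * f * f = 1 := by
    have := pow_orderOf_eq_one f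
    rw [hf.orderOf] at this
    simpa [pow_succ] using this
  have hfff : ∀ y, f (f (f y)) = y := fun y => by
    have := congrFun (congrArg DFunLike.coe h3) y
    simpa using this
  have hne2 : x ≠ f (f x) := fun e => hx (by
    have := hfff x
    rw [← e] at this
    exact this)
  have hne3 : f x ≠ f (f x) := fun e => hx (f.injective e).symm
  refine ⟨Ne.symm hx, hne2, hne3, hfff x, ?_⟩
  obtain ⟨k1, k2, k3, k4⟩ := cyc_apply (Ne.symm hx) hne2 hne3
  have hsupp : f.support = {x, f x, f (f x)} := by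
    refine (Finset.eq_of_subset_of_card_le ?_ ?_).symm
    · intro y hy
      simp only [Finset.mem_insert, Finset.mem_singleton] at hy
      rw [Perm.mem_support]
      rcases hy with rfl | rfl | rfl
      · exact hx
      · exact fun e => hx (f.injective e)
      · exact fun e => hne3 (f.injective e).symm
    · rw [hf.card_support, Finset.card_insert_of_notMem (by simp [Ne.symm hx, hne2]),
        Finset.card_pair hne3]
  ext y
  by_cases h1 : y = x
  · subst h1; rw [k1]
  by_cases h2 : y = f x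
  · subst h2; rw [k2]
  by_cases h4 : y = f (f x)
  · subst h4; rw [k3, hfff]
  rw [k4 y h1 h2 h4]
  have : y ∉ f.support := by rw [hsupp]; simp [h1, h2, h4]
  exact Perm.notMem_support.1 this

/-- Two three-cycles whose product is an involution share a directed edge. -/
theorem shared_edge {f g : Perm Ω} (hf : f.IsThreeCycle) (hg : g.IsThreeCycle)
    (h1 : f * g ≠ 1) (h2 : (f * g) * (f * g) = 1) :
    ∃ y s, f y ≠ y ∧ f s = s ∧ g y = f y ∧ g (f y) = s ∧ g s = y := by
  have hne : f ≠ g := by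
    rintro rfl
    have h3 := pow_orderOf_eq_one f
    rw [hf.orderOf] at h3
    apply h1
    have h4 : f ^ 4 = 1 := by
      simpa [pow_succ, mul_assoc] using h2
    have hf1 : f = 1 := by
      rw [pow_succ, h3, one_mul] at h4
      exact h4
    rw [hf1, mul_one]
  by_cases hall : ∀ x, g x ≠ x → f x ≠ x
  · exfalso
    obtain ⟨x, hx⟩ : ∃ x, g x ≠ x := by
      by_contra h
      push Not at h
      have hg1 : g = 1 := Equiv.ext h
      rw [hg1] at hg
      exact (Perm.IsThreeCycle.isCycle hg).ne_one rfl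
    obtain ⟨a1, a2, a3, -, hfe⟩ := eq_cyc hf (hall x hx)
    obtain ⟨b1, b2, b3, b4, hge⟩ := eq_cyc hg hx
    obtain ⟨-, -, -, k4⟩ := cyc_apply a1 a2 a3
    have hgx : g x = f x ∨ g x = f (f x) := by
      by_contra h
      rw [not_or] at h
      exact hall (g x) (fun e => hx (g.injective e))
        (by conv_lhs => rw [hfe]
            exact k4 _ hx h.1 h.2)
    have hggx : g (g x) = f x ∨ g (g x) = f (f x) := by
      by_contra h
      rw [not_or] at h
      exact hall (g (g x)) (fun e => hx (g.injective (g.injective e)))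
        (by conv_lhs => rw [hfe]
            exact k4 _ b2.symm h.1 h.2)
    rcases hgx with h | h <;> rcases hggx with h' | h'
    · exact b3 (h.trans h'.symm)
    · apply hne
      rw [hge, hfe, h', h]
    · apply h1
      rw [hge, hfe, h', h, ← cyc_inv a1 a2 a3, mul_inv_cancel]
    · exact b3 (h.trans h'.symm)
  · push Not at hall
    obtain ⟨x, hx, hfx⟩ := hall
    obtain ⟨b1, b2, b3, b4, hge⟩ := eq_cyc hg hx
    obtain ⟨-, -, -, k4⟩ := cyc_apply b1 b2 b3
    have hx4 : f (g (f (g x))) = x := by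
      have := congrFun (congrArg DFunLike.coe h2) x
      simpa using this
    have hgf : g (f (g x)) = x := f.injective (hx4.trans hfx.symm)
    have hfy : f (g x) = g (g x) := g.injective (hgf.trans b4.symm)
    exact ⟨g x, x, by rw [hfy]; exact b3.symm, hfx, hfy.symm, by rw [hfy]; exact b4, rfl⟩

theorem eq_one_of_centralizes (h4 : 4 ≤ Fintype.card Ω) {g : Perm Ω}
    (h : ∀ a ∈ alternatingGroup Ω, g * a = a * g) : g = 1 := by
  ext x
  by_contra hx
  rw [Perm.one_apply] at hx
  have h2 : ∃ y, y ≠ x ∧ y ≠ g x := by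
    by_contra hh
    push Not at hh
    have hsub : (Finset.univ : Finset Ω) ⊆ {x, g x} := fun y _ => by
      rcases eq_or_ne y x with rfl | h'
      · simp
      · simp [hh y h']
    have := Finset.card_le_card hsub
    have := Finset.card_le_two (a := x) (b := g x)
    rw [Finset.card_univ] at *
    omega
  obtain ⟨y, hyx, hyg⟩ := h2
  have h3 : ∃ z, z ≠ x ∧ z ≠ g x ∧ z ≠ y := by
    by_contra hh
    push Not at hh
    have hsub : (Finset.univ : Finset Ω) ⊆ {x, g x, y} := fun z _ => by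
      rcases eq_or_ne z x with rfl | h'
      · simp
      rcases eq_or_ne z (g x) with rfl | h''
      · simp
      · simp [hh z h' h'']
    have := Finset.card_le_card hsub
    have := Finset.card_le_three (a := x) (b := g x) (c := y)
    rw [Finset.card_univ] at *
    omega
  obtain ⟨z, hzx, hzg, hzy⟩ := h3
  obtain ⟨k1, -, -, k4⟩ := cyc_apply hyg.symm hzg.symm hzy.symm
  have e := congrFun (congrArg DFunLike.coe (h _ (cyc_mem (g x) y z hyg.symm hzg.symm hzy.symm))) x
  rw [Perm.mul_apply, Perm.mul_apply, k1, k4 x (Ne.symm hx) hyx.symm hzx.symm] at e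
  exact hyg e.symm

theorem closure_cyc_eq {a b : Ω} (hab : a ≠ b) (H : Subgroup (Perm Ω))
    (h : ∀ i, i ≠ a → i ≠ b → cyc a b i ∈ H) : alternatingGroup Ω ≤ H := by
  have hb : ∀ i j, i ≠ a → i ≠ b → j ≠ a → j ≠ b → i ≠ j → cyc b i j ∈ H := by
    intro i j hia hib hja hjb hij
    have := H.mul_mem (H.mul_mem (h i hia hib) (h j hja hjb)) (H.inv_mem (h i hia hib))
    obtain ⟨k1, k2, -, k4⟩ := cyc_apply hab hia.symm hib.symm
    rwa [conj_cyc, k1, k2, k4 j hja hjb hij.symm] at this
  have ha : ∀ i j, i ≠ a → i ≠ b → j ≠ a → j ≠ b → i ≠ j → cyc a i j ∈ H := by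
    intro i j hia hib hja hjb hij
    have := H.mul_mem (H.mul_mem (H.inv_mem (h i hia hib)) (h j hja hjb)) (h i hia hib)
    obtain ⟨k1, k2, k3, k4⟩ := cyc_apply hia.symm hab hib
    conv at this => arg 2; arg 2; rw [← inv_inv (cyc a b i)]
    rw [conj_cyc, cyc_inv hab hia.symm hib.symm, k1, k3, k4 j hja hij.symm hjb] at this
    have h2 := H.inv_mem this
    rwa [cyc_inv hia hij hja.symm, cyc_rot hij hia hja, cyc_rot hja hij.symm hia.symm] at h2
  have hall : ∀ i j k, i ≠ a → i ≠ b → j ≠ a → j ≠ b → k ≠ a → k ≠ b → i ≠ j → i ≠ k → j ≠ k →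
      cyc i j k ∈ H := by
    intro i j k hia hib hja hjb hka hkb hij hik hjk
    have := H.mul_mem (H.mul_mem (h i hia hib) (hb j k hja hjb hka hkb hjk)) (H.inv_mem (h i hia hib))
    obtain ⟨-, k2, -, k4⟩ := cyc_apply hab hia.symm hib.symm
    rwa [conj_cyc, k2, k4 j hja hjb hij.symm, k4 k hka hkb hik.symm] at this
  have hany : ∀ x y z, x ≠ y → x ≠ z → y ≠ z → cyc x y z ∈ H := by
    -- rotate a cycle through `a` to start at `a`
    have hA : ∀ y z, y ≠ a → z ≠ a → y ≠ z → cyc a y z ∈ H := by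
      intro y z hy hz hyz
      rcases eq_or_ne y b with rfl | hyb
      · exact h z hz hyz.symm
      rcases eq_or_ne z b with rfl | hzb
      · rw [← cyc_inv hab hy.symm hyz.symm]; exact H.inv_mem (h y hy hyb)
      exact ha y z hy hyb hz hzb hyz
    intro x y z hxy hxz hyz
    rcases eq_or_ne x a with rfl | hxa
    · exact hA y z hxy.symm hxz.symm hyz
    rcases eq_or_ne y a with rfl | hya
    · rw [cyc_rot hxy hxz hyz]; exact hA z x hyz.symm hxy hxz.symm
    rcases eq_or_ne z a with rfl | hza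
    · rw [cyc_rot hxy hxz hyz, cyc_rot hyz hxy.symm hxz.symm]; exact hA x y hxz hyz hxy
    rcases eq_or_ne x b with rfl | hxb
    · exact hb y z hya hxy.symm hza hxz.symm hyz
    rcases eq_or_ne y b with rfl | hyb
    · rw [cyc_rot hxy hxz hyz]; exact hb z x hza hyz.symm hxa hxy hxz.symm
    rcases eq_or_ne z b with rfl | hzb
    · rw [cyc_rot hxy hxz hyz, cyc_rot hyz hxy.symm hxz.symm]; exact hb x y hxa hxz hya hyz hxy
    exact hall x y z hxa hxb hya hyb hza hzb hxy hxz hyz
  rw [← Perm.closure_three_cycles_eq_alternating, Subgroup.closure_le]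
  intro f hf
  obtain ⟨x, hx⟩ : ∃ x, f x ≠ x := by
    by_contra hh
    push Not at hh
    have hf1 : f = 1 := Equiv.ext hh
    rw [hf1] at hf
    exact (Perm.IsThreeCycle.isCycle hf).ne_one rfl
  obtain ⟨a1, a2, a3, -, he⟩ := eq_cyc hf hx
  rw [he]
  exact hany _ _ _ a1 a2 a3

theorem count_ne {n k : ℕ} (hk : 2 ≤ k) (hn : 3 * k ≤ n) (h6 : ¬ (n = 6 ∧ k = 2)) :
    (n - 3) ! * 3 ≠ (n - 3 * k) ! * (3 ^ k * k !) := by
  intro h
  have hd : (n - 3 * k) ! * (n - 3).descFactorial (3 * k - 3) = (n - 3) ! := by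
    have := Nat.factorial_mul_descFactorial (show 3 * k - 3 ≤ n - 3 by omega)
    rwa [show n - 3 - (3 * k - 3) = n - 3 * k by omega] at this
  rw [← hd, mul_assoc] at h
  have h' : (n - 3).descFactorial (3 * k - 3) * 3 = 3 ^ k * k ! :=
    Nat.eq_of_mul_eq_mul_left (Nat.factorial_pos _) h
  have hmono : (3 * k - 3) ! ≤ (n - 3).descFactorial (3 * k - 3) := by
    rw [← Nat.descFactorial_self]
    exact Nat.descFactorial_le _ (by omega)
  rcases Nat.lt_or_ge k 3 with hk2 | hk3
  · obtain rfl : k = 2 := by omega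
    have hn7 : 4 ≤ n - 3 := by omega
    have := Nat.descFactorial_le 3 hn7
    simp [Nat.descFactorial, Nat.factorial] at this h'
    omega
  · have key : ∀ j, 3 ^ (j + 3) * (j + 3) ! < (3 * j + 6) ! * 3 := by
      intro j
      induction j with
      | zero => decide
      | succ j ih =>
        rw [show 3 * (j + 1) + 6 = 3 * j + 6 + 1 + 1 + 1 by ring, Nat.factorial_succ (3 * j + 6 + 1 + 1),
          Nat.factorial_succ (3 * j + 6 + 1), Nat.factorial_succ (3 * j + 6),
          show j + 1 + 3 = j + 3 + 1 by ring, pow_succ, Nat.factorial_succ (j + 3)]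
        calc 3 ^ (j + 3) * 3 * ((j + 3 + 1) * (j + 3) !) = (3 * (j + 4)) * (3 ^ (j + 3) * (j + 3) !) := by ring
          _ < (3 * (j + 4)) * ((3 * j + 6) ! * 3) := Nat.mul_lt_mul_of_pos_left ih (by omega)
          _ ≤ ((3 * j + 6 + 1 + 1 + 1) * ((3 * j + 6 + 1 + 1) * (3 * j + 6 + 1))) * ((3 * j + 6) ! * 3) := by
            apply Nat.mul_le_mul_right
            calc 3 * (j + 4) ≤ (3 * j + 6 + 1 + 1 + 1) * 2 := by omega
              _ ≤ _ := Nat.mul_le_mul_left _ (by nlinarith)
          _ = _ := by ring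
    obtain ⟨j, rfl⟩ : ∃ j, k = j + 3 := ⟨k - 3, by omega⟩
    have := key j
    rw [show 3 * (j + 3) - 3 = 3 * j + 6 by omega] at hmono h'
    have := Nat.mul_le_mul_right 3 hmono
    omega

/-- An automorphism of an alternating group of degree not six preserves three-cycles. -/
theorem maps_threeCycle (h4 : 4 ≤ Fintype.card Ω) (h6 : Fintype.card Ω ≠ 6)
    (φ : MulAut ↥(alternatingGroup Ω)) {x : ↥(alternatingGroup Ω)}
    (hx : (x : Perm Ω).IsThreeCycle) : ((φ x : ↥(alternatingGroup Ω)) : Perm Ω).IsThreeCycle := by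
  classical
  set y := φ x with hy
  have hord : orderOf (y : Perm Ω) = 3 := by
    rw [Subgroup.orderOf_coe, hy, MulEquiv.orderOf_eq, ← Subgroup.orderOf_coe, hx.orderOf]
  obtain ⟨k, hk⟩ := Perm.cycleType_prime_order (σ := (y : Perm Ω)) (by rw [hord]; exact Nat.prime_three)
  rw [hord] at hk
  have hsum : 3 * (k + 1) ≤ Fintype.card Ω := by
    have h := Perm.sum_cycleType (y : Perm Ω)
    rw [hk, Multiset.sum_replicate, smul_eq_mul] at h
    have := Finset.card_le_univ (y : Perm Ω).support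
    omega
  rcases Nat.eq_zero_or_pos k with rfl | hkpos
  · rw [Perm.IsThreeCycle, hk]; rfl
  exfalso
  have h7 : 7 ≤ Fintype.card Ω := by omega
  -- conjugation classes
  let C3 : Finset (Perm Ω) := Finset.univ.filter fun g => g.cycleType = {3}
  let Ck : Finset (Perm Ω) := Finset.univ.filter fun g => g.cycleType = Multiset.replicate (k + 1) 3
  have hA : ∀ g : Perm Ω, ∀ j, g.cycleType = Multiset.replicate j 3 → g ∈ alternatingGroup Ω := by
    intro g j hg
    rw [Perm.mem_alternatingGroup, Perm.sign_of_cycleType, hg, Multiset.sum_replicate,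
      Multiset.card_replicate, smul_eq_mul]
    exact (neg_one_pow_eq_one_iff_even (by decide)).2 ⟨2 * j, by ring⟩
  -- all elements of the larger type are conjugate in the alternating group
  have hconj : ∀ g : ↥(alternatingGroup Ω), (g : Perm Ω).cycleType = Multiset.replicate (k + 1) 3 →
      ∃ c : ↥(alternatingGroup Ω), c * y * c⁻¹ = g := by
    intro g hg
    have hc : IsConj (y : Perm Ω) (g : Perm Ω) := Perm.isConj_iff_cycleType_eq.2 (hk.trans hg.symm)
    obtain ⟨c, hc⟩ := isConj_iff.1 hc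
    by_cases hcA : c ∈ alternatingGroup Ω
    · exact ⟨⟨c, hcA⟩, Subtype.ext hc⟩
    obtain ⟨w, hwA, hwy⟩ : ∃ w, w ∉ alternatingGroup Ω ∧ w * (y : Perm Ω) = (y : Perm Ω) * w := by
      by_contra hh
      push Not at hh
      have hle : Subgroup.centralizer ({(y : Perm Ω)} : Set (Perm Ω)) ≤ alternatingGroup Ω := by
        intro w hw
        by_contra hw'
        exact hh w hw' (Subgroup.mem_centralizer_singleton_iff.1 hw)
      have hnd := Equiv.Perm.count_le_one_of_centralizer_le_alternating hle 3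
      rw [hk, Multiset.count_replicate_self] at hnd
      omega
    refine ⟨⟨c * w, ?_⟩, Subtype.ext ?_⟩
    · rw [Perm.mem_alternatingGroup] at hcA hwA ⊢
      rw [map_mul, (Int.units_eq_one_or _).resolve_left hcA, (Int.units_eq_one_or _).resolve_left hwA]
      rfl
    · show c * w * (y : Perm Ω) * (c * w)⁻¹ = (g : Perm Ω)
      rw [← hc, mul_assoc c w, hwy]
      group
  have hcards : C3.card = Ck.card := by
    have hm : ∀ g : Perm Ω, g.cycleType = {3} → g ∈ alternatingGroup Ω := fun g hg => hA g 1 hg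
    refine Finset.card_bij (fun g hg => ((φ ⟨g, hm g (Finset.mem_filter.1 hg).2⟩ : ↥(alternatingGroup Ω)) : Perm Ω))
      ?_ ?_ ?_
    · intro g hg
      obtain ⟨c, hc⟩ := isConj_iff.1 (alternatingGroup.isThreeCycle_isConj
        (by rw [Nat.card_eq_fintype_card]; omega) hx
        (show ((⟨g, hm g (Finset.mem_filter.1 hg).2⟩ : ↥(alternatingGroup Ω)) : Perm Ω).IsThreeCycle from
          (Finset.mem_filter.1 hg).2))
      simp only [Ck, Finset.mem_filter, Finset.mem_univ, true_and]
      rw [← hc, map_mul, map_mul, map_inv, ← hy]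
      simp [Subgroup.coe_mul, hk]
    · intro g hg g' hg' h
      exact congrArg Subtype.val (φ.injective (Subtype.ext h))
    · intro g hg
      simp only [Ck, Finset.mem_filter, Finset.mem_univ, true_and] at hg
      obtain ⟨c, hc⟩ := hconj ⟨g, hA g _ hg⟩ hg
      refine ⟨((φ.symm c * x * (φ.symm c)⁻¹ : ↥(alternatingGroup Ω)) : Perm Ω), ?_, ?_⟩
      · simp only [C3, Finset.mem_filter, Finset.mem_univ, true_and]
        show ((φ.symm c : Perm Ω) * (x : Perm Ω) * (φ.symm c : Perm Ω)⁻¹).cycleType = {3}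
        rw [Perm.cycleType_conj]
        exact hx
      · simp only [Subtype.coe_eta, map_mul, map_inv, MulEquiv.apply_symm_apply, ← hy]
        rw [hc]
  have e3 := Perm.card_of_cycleType_mul_eq (α := Ω) ({3} : Multiset ℕ)
  have ek := Perm.card_of_cycleType_mul_eq (α := Ω) (Multiset.replicate (k + 1) 3)
  rw [if_pos ⟨by simp; omega, by simp⟩] at e3
  rw [if_pos ⟨by simp; omega, fun a ha => by rw [Multiset.eq_of_mem_replicate ha]; omega⟩] at ek
  simp only [Multiset.sum_singleton, Multiset.prod_singleton, Multiset.toFinset_singleton,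
    Finset.prod_singleton, Multiset.count_singleton_self, Nat.factorial_one, mul_one] at e3
  simp only [Multiset.sum_replicate, Multiset.prod_replicate, smul_eq_mul,
    Multiset.toFinset_replicate, Nat.succ_ne_zero, if_false, Finset.prod_singleton,
    Multiset.count_replicate_self] at ek
  have hpos : 0 < C3.card := Finset.card_pos.2 ⟨x, by simp only [C3, Finset.mem_filter, Finset.mem_univ, true_and]; exact hx⟩
  have hne := count_ne (n := Fintype.card Ω) (k := k + 1) (by omega) (by omega) (by omega)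
  apply hne
  apply Nat.eq_of_mul_eq_mul_left hpos
  refine e3.trans (Eq.trans ?_ (congrArg (· * ((Fintype.card Ω - 3 * (k + 1)) ! * (3 ^ (k + 1) * (k + 1) !))) hcards.symm))
  refine ek.symm.trans ?_
  congr 1
  rw [mul_comm (k + 1) 3, mul_assoc]

/-- An automorphism of an alternating group mapping three-cycles to three-cycles is conjugation by
a permutation. -/
theorem exists_conj_of_maps (h4 : 4 ≤ Fintype.card Ω) (φ : MulAut ↥(alternatingGroup Ω))
    (hmaps : ∀ x : ↥(alternatingGroup Ω), (x : Perm Ω).IsThreeCycle →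
      ((φ x : ↥(alternatingGroup Ω)) : Perm Ω).IsThreeCycle) :
    ∃ σ : Perm Ω, ∀ a : ↥(alternatingGroup Ω),
      ((φ a : ↥(alternatingGroup Ω)) : Perm Ω) = σ * (a : Perm Ω) * σ⁻¹ := by
  classical
  obtain ⟨a, b, c, hab, hac, hbc⟩ := Fintype.two_lt_card_iff.1 (show 2 < Fintype.card Ω by omega)
  obtain ⟨d, hd⟩ : ∃ d, d ∉ ({a, b, c} : Finset Ω) := by
    by_contra h
    push Not at h
    have := Finset.card_le_card (fun x _ => h x : (Finset.univ : Finset Ω) ⊆ {a, b, c})
    have := Finset.card_le_three (a := a) (b := b) (c := c)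
    rw [Finset.card_univ] at *
    omega
  simp only [Finset.mem_insert, Finset.mem_singleton, not_or] at hd
  let I := {i : Ω // i ≠ a ∧ i ≠ b}
  let F : I → Perm Ω := fun i =>
    ((φ ⟨cyc a b i, cyc_mem a b i hab i.2.1.symm i.2.2.symm⟩ : ↥(alternatingGroup Ω)) : Perm Ω)
  have hF : ∀ i, (F i).IsThreeCycle := fun i =>
    hmaps _ (cyc_isThreeCycle hab i.2.1.symm i.2.2.symm)
  have hFinj : Function.Injective F := by
    intro i j h
    have e := congrArg Subtype.val (φ.injective (Subtype.ext h))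
    have e' := congrFun (congrArg DFunLike.coe e) b
    rw [(cyc_apply hab i.2.1.symm i.2.2.symm).2.1, (cyc_apply hab j.2.1.symm j.2.2.symm).2.1] at e'
    exact Subtype.ext e'
  have hpair : ∀ i j : I, i ≠ j → F i * F j ≠ 1 ∧ (F i * F j) * (F i * F j) = 1 := by
    intro i j hij
    have hij' : (i : Ω) ≠ j := fun e => hij (Subtype.ext e)
    have hsq : (cyc a b i * cyc a b j) * (cyc a b i * cyc a b j) = 1 := by
      obtain ⟨i1, i2, i3, i4⟩ := cyc_apply hab i.2.1.symm i.2.2.symm
      obtain ⟨j1, j2, j3, j4⟩ := cyc_apply hab j.2.1.symm j.2.2.symm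
      have e1 : cyc a b i j = j := i4 _ j.2.1 j.2.2 hij'.symm
      have e2 : cyc a b j i = i := j4 _ i.2.1 i.2.2 hij'
      ext z
      simp only [Perm.mul_apply, Perm.one_apply]
      by_cases z1 : z = a
      · subst z1; rw [j1, i2, e2, i3]
      by_cases z2 : z = b
      · subst z2; rw [j2, e1, j3, i1]
      by_cases z3 : z = i
      · subst z3; rw [e2, i3, j1, i2]
      by_cases z4 : z = j
      · subst z4; rw [j3, i1, j2, e1]
      rw [j4 z z1 z2 z4, i4 z z1 z2 z3, j4 z z1 z2 z4, i4 z z1 z2 z3]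
    constructor
    · intro h
      have h' : (⟨cyc a b i, cyc_mem a b i hab i.2.1.symm i.2.2.symm⟩ : ↥(alternatingGroup Ω)) *
          ⟨cyc a b j, cyc_mem a b j hab j.2.1.symm j.2.2.symm⟩ = 1 :=
        φ.injective (by rw [map_mul, map_one]; exact Subtype.ext h)
      have h'' := congrFun (congrArg DFunLike.coe (congrArg Subtype.val h')) b
      simp only [Subgroup.coe_mul, Perm.mul_apply, OneMemClass.coe_one, Perm.one_apply] at h''
      rw [(cyc_apply hab j.2.1.symm j.2.2.symm).2.1,
        (cyc_apply hab i.2.1.symm i.2.2.symm).2.2.2 _ j.2.1 j.2.2 hij'.symm] at h''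
      exact j.2.2 h''
    · have h' : (φ (⟨cyc a b i, cyc_mem a b i hab i.2.1.symm i.2.2.symm⟩ *
          ⟨cyc a b j, cyc_mem a b j hab j.2.1.symm j.2.2.symm⟩ *
          (⟨cyc a b i, cyc_mem a b i hab i.2.1.symm i.2.2.symm⟩ *
          ⟨cyc a b j, cyc_mem a b j hab j.2.1.symm j.2.2.symm⟩))) = 1 := by
        rw [show (⟨cyc a b i, cyc_mem a b i hab i.2.1.symm i.2.2.symm⟩ : ↥(alternatingGroup Ω)) *
          ⟨cyc a b j, cyc_mem a b j hab j.2.1.symm j.2.2.symm⟩ *
          (⟨cyc a b i, cyc_mem a b i hab i.2.1.symm i.2.2.symm⟩ *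
          ⟨cyc a b j, cyc_mem a b j hab j.2.1.symm j.2.2.symm⟩) = 1 from Subtype.ext hsq, map_one]
      have := congrArg Subtype.val h'
      simp only [map_mul, Subgroup.coe_mul, OneMemClass.coe_one] at this
      exact this
  let c' : I := ⟨c, hac.symm, hbc.symm⟩
  let d' : I := ⟨d, hd.1, hd.2.1⟩
  have hcd : c' ≠ d' := fun e => hd.2.2 (congrArg Subtype.val e).symm
  obtain ⟨p, s, hp, hs, hdp, hdq, hds⟩ := shared_edge (hF c') (hF d') (hpair c' d' hcd).1 (hpair c' d' hcd).2
  set q := F c' p with hq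
  set r := F c' q with hr
  obtain ⟨a1, a2, a3, a4, hfe⟩ := eq_cyc (hF c') hp
  -- every generator image runs through `p → q`
  have hedge : ∀ i, F i p = q := by
    intro i
    by_cases hic : i = c'
    · subst hic; rfl
    by_cases hid : i = d'
    · subst hid; exact hdp
    by_contra hne
    obtain ⟨y, t, hy, ht, hiy, hit, hti⟩ := shared_edge (hF c') (hF i) (hpair c' i (Ne.symm hic)).1 (hpair c' i (Ne.symm hic)).2
    obtain ⟨u, w, hu, hw, hiu, hiw, hwi⟩ := shared_edge (hF d') (hF i) (hpair d' i (Ne.symm hid)).1 (hpair d' i (Ne.symm hid)).2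
    obtain ⟨f1, f2, f3, f4, hde⟩ := eq_cyc (hF d') (x := p) (by rw [hdp]; exact a1.symm)
    obtain ⟨-, -, -, k4⟩ := cyc_apply a1 a2 a3
    obtain ⟨-, -, -, l4⟩ := cyc_apply f1 f2 f3
    have hy' : y = p ∨ y = q ∨ y = r := by
      by_contra h
      simp only [not_or] at h
      exact hy (by conv_lhs => rw [hfe]
                   exact k4 y h.1 h.2.1 h.2.2)
    have hu' : u = p ∨ u = q ∨ u = s := by
      by_contra h
      simp only [not_or] at h
      have := l4 u h.1 (by rw [hdp]; exact h.2.1) (by rw [hdp, hdq]; exact h.2.2)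
      rw [← hde] at this
      exact hu this
    have h5 : F c' r = p := a4
    have h7 : r ≠ p := a2.symm
    have h8 : r ≠ q := a3.symm
    have h9 : q ≠ p := a1.symm
    have hsr : s ≠ r := fun e => by
      rw [e, h5] at hs
      exact h7 hs.symm
    have hsp : s ≠ p := fun e => by
      rw [e] at hs
      exact h9 hs
    have hsq : s ≠ q := fun e => by
      rw [e] at hs
      exact h8 hs
    have h10 : F d' r = r := by
      have := l4 r h7 (by rw [hdp]; exact h8) (by rw [hdp, hdq]; exact hsr.symm)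
      rwa [← hde] at this
    obtain ⟨g1, g2, g3, g4, hie⟩ := eq_cyc (hF i) (x := y) (by rw [hiy]; exact hy)
    simp only [hiy, hit] at g1 g2 g3 hie
    have hui : u = y ∨ u = F c' y ∨ u = t := by
      by_contra h
      simp only [not_or] at h
      have := (cyc_apply g1 g2 g3).2.2.2 u h.1 h.2.1 h.2.2
      rw [← hie, hiu] at this
      exact hu this
    rcases hy' with rfl | rfl | rfl <;> rcases hu' with rfl | rfl | rfl <;> grind
  have hq2 : ∀ i, F i q ≠ p ∧ F i q ≠ q := by
    intro i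
    obtain ⟨b1, b2, b3, b4, -⟩ := eq_cyc (hF i) (x := p) (by rw [hedge i]; exact a1.symm)
    rw [hedge i] at b1 b2 b3
    exact ⟨b2.symm, b3.symm⟩
  have hFe : ∀ i, F i = cyc p q (F i q) := by
    intro i
    obtain ⟨-, -, -, -, he⟩ := eq_cyc (hF i) (x := p) (by rw [hedge i]; exact a1.symm)
    rwa [hedge i] at he
  let σ₀ : Ω → Ω := fun x => if h : x ≠ a ∧ x ≠ b then F ⟨x, h⟩ q else if x = a then p else q
  have hσa : σ₀ a = p := by simp [σ₀]
  have hσb : σ₀ b = q := by simp [σ₀, hab.symm]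
  have hσi : ∀ i : I, σ₀ i = F i q := fun i => by simp [σ₀, i.2]
  have hσinj : Function.Injective σ₀ := by
    intro x y hxy
    by_cases hx : x ≠ a ∧ x ≠ b <;> by_cases hy : y ≠ a ∧ y ≠ b
    · rw [hσi ⟨x, hx⟩, hσi ⟨y, hy⟩] at hxy
      exact congrArg Subtype.val (hFinj ((hFe ⟨x, hx⟩).trans (Eq.trans (by rw [hxy]) (hFe ⟨y, hy⟩).symm)))
    · rw [hσi ⟨x, hx⟩] at hxy
      rw [not_and_or, not_not, not_not] at hy
      rcases hy with rfl | rfl
      · rw [hσa] at hxy; exact absurd hxy (hq2 _).1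
      · rw [hσb] at hxy; exact absurd hxy (hq2 _).2
    · rw [hσi ⟨y, hy⟩] at hxy
      rw [not_and_or, not_not, not_not] at hx
      rcases hx with rfl | rfl
      · rw [hσa] at hxy; exact absurd hxy.symm (hq2 _).1
      · rw [hσb] at hxy; exact absurd hxy.symm (hq2 _).2
    · rw [not_and_or, not_not, not_not] at hx hy
      rcases hx with rfl | rfl <;> rcases hy with rfl | rfl
      · rfl
      · rw [hσa, hσb] at hxy; exact absurd hxy a1
      · rw [hσa, hσb] at hxy; exact absurd hxy.symm a1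
      · rfl
  let σ : Perm Ω := Equiv.ofBijective σ₀ (Finite.injective_iff_bijective.1 hσinj)
  let H : Subgroup ↥(alternatingGroup Ω) :=
    MonoidHom.eqLocus ((alternatingGroup Ω).subtype.comp φ.toMonoidHom)
      ((MulAut.conj σ).toMonoidHom.comp (alternatingGroup Ω).subtype)
  have hH : alternatingGroup Ω ≤ H.map (alternatingGroup Ω).subtype := by
    refine closure_cyc_eq hab _ (fun i hia hib => ?_)
    refine ⟨⟨cyc a b i, cyc_mem a b i hab hia.symm hib.symm⟩, ?_, rfl⟩
    show F ⟨i, hia, hib⟩ = σ * cyc a b i * σ⁻¹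
    rw [conj_cyc, hFe ⟨i, hia, hib⟩]
    show cyc p q _ = cyc (σ₀ a) (σ₀ b) (σ₀ i)
    rw [hσa, hσb, hσi ⟨i, hia, hib⟩]
  refine ⟨σ, fun x => ?_⟩
  obtain ⟨y, hy, hyx⟩ := hH x.2
  obtain rfl : y = x := Subtype.ext hyx
  exact hy

/-- Every automorphism of an alternating group of degree other than six is conjugation by a
permutation. -/
theorem exists_conj (h4 : 4 ≤ Fintype.card Ω) (h6 : Fintype.card Ω ≠ 6)
    (φ : MulAut ↥(alternatingGroup Ω)) :
    ∃ σ : Perm Ω, ∀ a : ↥(alternatingGroup Ω),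
      ((φ a : ↥(alternatingGroup Ω)) : Perm Ω) = σ * (a : Perm Ω) * σ⁻¹ :=
  exists_conj_of_maps h4 φ fun _ hx => maps_threeCycle h4 h6 φ hx

end Cfsg.Agent.Lib.Alt.Aut
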