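import Cfsg.Agent.Lib.Alt.NilPerm

/-!
Equality cases of the bounds for nilpotent permutation groups in degree `≡ 3 mod 4`:
such a group is a Sylow 2-subgroup on all but three points times a 3-cycle.
-/

set_option autoImplicit false

namespace Cfsg.Agent.Lib.Alt.Nil

open Equiv MulAction

universe u

variable {α : Type u} [Fintype α] [DecidableEq α]

/-- `2 ^ k` exactly divides the order of `G`: subgroups of order `2 ^ k` are conjugate in `G`. -/
theorem exists_conj_of_card {H : Type*} [Group H] [Finite H] (G Q Q' : Subgroup H) (hQ : Q ≤ G)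
    (hQ' : Q' ≤ G) (k : ℕ) (hk : (Nat.card G).factorization 2 = k) (h : Nat.card Q = 2 ^ k)
    (h' : Nat.card Q' = 2 ^ k) : ∃ q ∈ G, Q.map (MulAut.conj q).toMonoidHom = Q' := by
  haveI : Fact (Nat.Prime 2) := ⟨Nat.prime_two⟩
  have e : ∀ R : Subgroup H, R ≤ G → Nat.card (R.subgroupOf G) = Nat.card R := fun R hR =>
    Nat.card_congr (Subgroup.subgroupOfEquivOfLe hR).toEquiv
  let P : Sylow 2 G := Sylow.ofCard (Q.subgroupOf G) (by rw [e Q hQ, h, hk])
  let P' : Sylow 2 G := Sylow.ofCard (Q'.subgroupOf G) (by rw [e Q' hQ', h', hk])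
  obtain ⟨q, hq⟩ := MulAction.exists_smul_eq G P P'
  refine ⟨q, q.2, ?_⟩
  have h1 := congrArg (fun S : Sylow 2 G => (S : Subgroup G).map G.subtype) hq
  simp only [Sylow.coe_subgroup_smul] at h1
  have h2 : (P' : Subgroup G).map G.subtype = Q' := by
    show (Q'.subgroupOf G).map G.subtype = Q'
    rw [Subgroup.map_subgroupOf_eq_of_le hQ']
  have h3 : (P : Subgroup G).map G.subtype = Q := by
    show (Q.subgroupOf G).map G.subtype = Q
    rw [Subgroup.map_subgroupOf_eq_of_le hQ]
  rw [← h2, ← h1, ← h3]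
  show _ = ((P : Subgroup G).map (MulAut.conj q).toMonoidHom).map G.subtype
  rw [Subgroup.map_map, Subgroup.map_map]
  rfl

/-- The 2-part of the order of a symmetric group. -/
theorem factorization_card_perm {β : Type*} [Finite β] :
    (Nat.card (Perm β)).factorization 2 = nilNu (Nat.card β) := by
  rw [Nat.card_perm, Nat.factorization_def _ Nat.prime_two, nilNu]

/-- The 2-part of the order of an alternating group. -/
theorem factorization_card_alt {β : Type*} [Fintype β] [DecidableEq β] (h : 2 ≤ Nat.card β) :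
    (Nat.card (alternatingGroup β)).factorization 2 + 1 = nilNu (Nat.card β) := by
  haveI : Nontrivial β := Finite.one_lt_card_iff_nontrivial.mp h
  rw [← factorization_card_perm (β := β), ← two_mul_nat_card_alternatingGroup,
    Nat.factorization_mul two_ne_zero Nat.card_pos.ne', Finsupp.add_apply,
    Nat.prime_two.factorization_self, add_comm]

theorem sylow_card_perm {β : Type*} [Finite β] (P : Sylow 2 (Perm β)) :
    Nat.card P = 2 ^ nilNu (Nat.card β) := by
  haveI : Fact (Nat.Prime 2) := ⟨Nat.prime_two⟩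
  rw [P.card_eq_multiplicity, factorization_card_perm]

theorem two_mul_sylow_card_alt {β : Type*} [Fintype β] [DecidableEq β] (h : 2 ≤ Nat.card β)
    (P : Sylow 2 (alternatingGroup β)) : 2 * Nat.card P = 2 ^ nilNu (Nat.card β) := by
  haveI : Fact (Nat.Prime 2) := ⟨Nat.prime_two⟩
  rw [P.card_eq_multiplicity, ← pow_succ', factorization_card_alt h]

variable (p : α → Prop) [DecidablePred p]

/-- The group "3-cycle on `p`, times `Q` outside `p`". -/
def stdGroup (Q : Subgroup (Perm {x // ¬p x})) : Subgroup (Perm α) :=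
  ((alternatingGroup {x // p x}).prod Q).map (Perm.subtypeCongrHom p)

theorem card_alt_three {β : Type*} [Fintype β] [DecidableEq β] (h : Nat.card β = 3) :
    Nat.card (alternatingGroup β) = 3 := by
  haveI : Nontrivial β := Finite.one_lt_card_iff_nontrivial.mp (by omega)
  rw [nat_card_alternatingGroup, h]; rfl

theorem card_stdGroup (h3 : Nat.card {x // p x} = 3) (Q : Subgroup (Perm {x // ¬p x})) :
    Nat.card (stdGroup p Q) = 3 * Nat.card Q := by
  rw [stdGroup, card_map_prod, card_alt_three h3]

theorem stdGroup_sign (Q : Subgroup (Perm {x // ¬p x})) (hQ : ∀ q ∈ Q, Perm.sign q = 1) :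
    ∀ g ∈ stdGroup p Q, Perm.sign g = 1 := by
  rintro _ ⟨⟨x, y⟩, ⟨hx, hy⟩, rfl⟩
  show Perm.sign (Perm.subtypeCongr x y) = 1
  rw [Perm.sign_subtypeCongr, Perm.mem_alternatingGroup.mp hx, hQ y hy, one_mul]

/-- `stdGroup p Q ≅ Q × C₃`. -/
noncomputable def stdEquiv (h3 : Nat.card {x // p x} = 3) (Q : Subgroup (Perm {x // ¬p x})) :
    stdGroup p Q ≃* Q × Multiplicative (ZMod 3) :=
  haveI : Fact (Nat.Prime 3) := ⟨Nat.prime_three⟩
  (((alternatingGroup {x // p x}).prod Q).equivMapOfInjective _
      (Perm.subtypeCongrHom_injective p)).symm.trans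
    ((Subgroup.prodEquiv _ _).trans
      (MulEquiv.prodComm.trans ((MulEquiv.refl Q).prodCongr
        (mulEquivOfPrimeCardEq (p := 3) (card_alt_three h3) (by simp)))))

variable {p}

/-- Two standard groups whose 2-parts correspond are conjugate, by an even permutation. -/
theorem stdGroup_conj {p' : α → Prop} [DecidablePred p'] (h3 : Nat.card {x // p x} = 3)
    (h3' : Nat.card {x // p' x} = 3) (Q : Subgroup (Perm {x // ¬p x}))
    (Q' : Subgroup (Perm {x // ¬p' x})) (e' : {x // ¬p x} ≃ {x // ¬p' x})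
    (he : Q.map e'.permCongrHom.toMonoidHom = Q') :
    ∃ g : Perm α, Perm.sign g = 1 ∧
      stdGroup p' Q' = (stdGroup p Q).map (MulAut.conj g).toMonoidHom := by
  obtain ⟨e⟩ : Nonempty ({x // p x} ≃ {x // p' x}) :=
    Finite.card_eq.mp (h3.trans h3'.symm)
  have key : ∀ e : {x // p x} ≃ {x // p' x}, ∀ g : Perm α,
      g = (Equiv.sumCompl p).symm.trans ((e.sumCongr e').trans (Equiv.sumCompl p')) →
      stdGroup p' Q' = (stdGroup p Q).map (MulAut.conj g).toMonoidHom := by
    intro e g hg
    refine (Subgroup.eq_of_le_of_card_ge ?_ ?_).symm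
    · rintro _ ⟨_, ⟨⟨x, y⟩, ⟨hx, hy⟩, rfl⟩, rfl⟩
      refine ⟨(e.permCongrHom x, e'.permCongrHom y), ⟨?_, ?_⟩, ?_⟩
      · show e.permCongr x ∈ alternatingGroup _
        rw [Perm.mem_alternatingGroup, Perm.sign_permCongr]
        exact Perm.mem_alternatingGroup.mp hx
      · rw [← he]; exact ⟨y, hy, rfl⟩
      · apply Equiv.ext
        intro z
        obtain ⟨w, rfl⟩ := g.surjective z
        show Perm.subtypeCongr (e.permCongr x) (e'.permCongr y) (g w) =
          (g * Perm.subtypeCongr x y * g⁻¹ : Perm α) (g w)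
        rw [Perm.mul_apply, Perm.mul_apply, show g⁻¹ (g w) = w from g.symm_apply_apply w, hg]
        simp only [Equiv.trans_apply]
        by_cases hw : p w
        · have hs : (Equiv.sumCompl p).symm w = Sum.inl ⟨w, hw⟩ :=
            Equiv.sumCompl_symm_apply_of_pos hw
          rw [hs, Perm.subtypeCongr.left_apply _ _ hw,
            Equiv.sumCompl_symm_apply_of_pos (x ⟨w, hw⟩).2]
          simp [Perm.subtypeCongr.left_apply, (e ⟨w, hw⟩).2]
        · have hs : (Equiv.sumCompl p).symm w = Sum.inr ⟨w, hw⟩ :=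
            Equiv.sumCompl_symm_apply_of_neg hw
          rw [hs, Perm.subtypeCongr.right_apply _ _ hw,
            Equiv.sumCompl_symm_apply_of_neg (y ⟨w, hw⟩).2]
          simp [Perm.subtypeCongr.right_apply, (e' ⟨w, hw⟩).2]
    · rw [Nat.card_congr ((stdGroup p Q).equivMapOfInjective _ (MulAut.conj g).injective).symm.toEquiv,
        card_stdGroup p h3, card_stdGroup p' h3', ← he,
        ← Nat.card_congr (Q.equivMapOfInjective _ e'.permCongrHom.injective).toEquiv]
  rcases Int.units_eq_one_or (Perm.sign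
      ((Equiv.sumCompl p).symm.trans ((e.sumCongr e').trans (Equiv.sumCompl p')))) with h | h
  · exact ⟨_, h, key e _ rfl⟩
  · haveI : Nontrivial {x // p x} := Finite.one_lt_card_iff_nontrivial.mp (by omega)
    obtain ⟨a, b, hab⟩ := exists_pair_ne {x // p x}
    refine ⟨_, ?_, key ((Equiv.swap a b).trans e) _ rfl⟩
    have hg : (Equiv.sumCompl p).symm.trans
        ((((Equiv.swap a b).trans e).sumCongr e').trans (Equiv.sumCompl p')) =
        ((Equiv.sumCompl p).symm.trans ((e.sumCongr e').trans (Equiv.sumCompl p'))) *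
          Perm.subtypeCongr (Equiv.swap a b) 1 := by
      apply Equiv.ext
      intro w
      rw [Perm.mul_apply]
      by_cases hw : p w
      · simp [Perm.subtypeCongr.left_apply, hw, (Equiv.swap a b ⟨w, hw⟩).2]
      · simp [Perm.subtypeCongr.right_apply, hw]
    rw [hg, map_mul, h, Perm.sign_subtypeCongr, Perm.sign_swap hab]
    simp

omit p in
theorem eq_stdGroup_aux (N : Subgroup (Perm α)) (a : α) [DecidablePred fun x => x ∈ orbit N a]
    (ha : Nat.card (orbit N a) = 3)
    (hA : Nat.card (res (inv_orbit N a)).range = 3)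
    (hcard : 3 * Nat.card (res (inv_orbit N a).not).range ≤ Nat.card N) :
    N = stdGroup (fun x => x ∈ orbit N a) (res (inv_orbit N a).not).range := by
  have halt : (res (inv_orbit N a)).range = alternatingGroup {x // x ∈ orbit N a} := by
    apply Perm.eq_alternatingGroup_of_index_eq_two
    have := (res (inv_orbit N a)).range.card_mul_index
    rw [hA, Nat.card_perm, show Nat.card {x // x ∈ orbit N a} = 3 from ha] at this
    simp [Nat.factorial] at this
    omega
  refine Subgroup.eq_of_le_of_card_ge ?_ ?_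
  · unfold stdGroup; rw [← halt]; exact le_map _
  · rw [card_stdGroup _ ha]; exact hcard

omit p in
/-- Equality in degree `≡ 3 mod 4`. -/
theorem eq_stdGroup (N : Subgroup (Perm α)) (hN : Group.IsNilpotent N)
    (hn : Nat.card α % 4 = 3) (hcard : Nat.card N = 3 * 2 ^ nilNu (Nat.card α - 3)) :
    ∃ p : α → Prop, ∃ _ : DecidablePred p, ∃ Q : Subgroup (Perm {x // ¬p x}),
      Nat.card {x // p x} = 3 ∧ Nat.card Q = 2 ^ nilNu (Nat.card α - 3) ∧ N = stdGroup p Q := by
  classical
  have hpos := Nat.one_le_two_pow (n := nilNu (Nat.card α - 3))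
  have h3 : ∃ a : α, Nat.card (orbit N a) = 3 := by
    by_contra h
    push Not at h
    have := card_le_of_no_three _ rfl N hN h
    rw [(nu_add_three (r := Nat.card α)).2.2.2 hn, pow_succ] at this
    omega
  obtain ⟨a, ha⟩ := h3
  obtain ⟨hF, hsum, -⟩ := split_orbit N hN a
  rw [ha, nilF_small.1] at hF
  have hr : Nat.card {x // ¬x ∈ orbit N a} = Nat.card α - 3 := by omega
  have hB := card_le_nilH _ rfl _ (nilpotent_range hN (res (inv_orbit N a).not))
  rw [hr, nilH, if_neg (by omega)] at hB
  have hm := card_le_mul (inv_orbit N a)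
  have hA := Nat.le_of_dvd (by norm_num) hF
  have h1 : Nat.card (res (inv_orbit N a).not).range = 2 ^ nilNu (Nat.card α - 3) := by
    have := Nat.mul_le_mul_right (Nat.card (res (inv_orbit N a).not).range) hA
    omega
  have h2 : Nat.card (res (inv_orbit N a)).range = 3 := by
    rw [h1, hcard] at hm
    exact le_antisymm hA (Nat.le_of_mul_le_mul_right hm (by omega))
  exact ⟨_, inferInstance, _, ha, h1, eq_stdGroup_aux N a ha h2 (by rw [h1, hcard])⟩

omit p in
/-- Equality in degree `≡ 3 mod 4` for groups of even permutations. -/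
theorem eq_stdGroup_alt (N : Subgroup (Perm α)) (hN : Group.IsNilpotent N)
    (hev : ∀ g ∈ N, Perm.sign g = 1) (hn : Nat.card α % 4 = 3) (h7 : 7 ≤ Nat.card α)
    (hcard : 2 * Nat.card N = 3 * 2 ^ nilNu (Nat.card α - 3)) :
    ∃ p : α → Prop, ∃ _ : DecidablePred p, ∃ Q : Subgroup (Perm {x // ¬p x}),
      Nat.card {x // p x} = 3 ∧ (∀ q ∈ Q, Perm.sign q = 1) ∧
      2 * Nat.card Q = 2 ^ nilNu (Nat.card α - 3) ∧ N = stdGroup p Q := by
  classical
  have hpos := Nat.one_le_two_pow (n := nilNu (Nat.card α - 3))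
  have h3 : ∃ a : α, Nat.card (orbit N a) = 3 := by
    by_contra h
    push Not at h
    by_cases hodd : ∀ a : α, Odd (Nat.card (orbit N a)) → Nat.card (orbit N a) = 1
    · have := two_mul_le_of_no_odd N hN hev (by omega) hodd
      rw [(nu_add_three (r := Nat.card α)).2.2.2 hn, pow_succ] at this
      omega
    push Not at hodd
    obtain ⟨a, hd, hd1⟩ := hodd
    obtain ⟨hF, hsum, -⟩ := split_orbit N hN a
    have hlt := nilF_mul_nilK_lt (r := Nat.card {x // ¬x ∈ orbit N a}) hd hd1 (h a)
      (by omega) (by omega)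
    rw [add_comm, hsum] at hlt
    have h1 := Nat.mul_le_mul (Nat.le_of_dvd (nilF_pos _) hF)
      (card_le_nilK _ rfl _ (nilpotent_range hN (res (inv_orbit N a).not)) (rest_even N hN hev a hd))
    rw [mul_left_comm] at h1
    have := Nat.mul_le_mul_left 2 (card_le_mul (inv_orbit N a))
    omega
  obtain ⟨a, ha⟩ := h3
  obtain ⟨hF, hsum, -⟩ := split_orbit N hN a
  rw [ha, nilF_small.1] at hF
  have hr : Nat.card {x // ¬x ∈ orbit N a} = Nat.card α - 3 := by omega
  have hB := card_le_nilK _ rfl _ (nilpotent_range hN (res (inv_orbit N a).not))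
    (rest_even N hN hev a (by rw [ha]; decide))
  rw [hr, nilK, if_neg (by omega), if_neg (by omega), if_neg (by omega), if_neg (by omega),
    if_neg (by omega), nilH, if_neg (by omega)] at hB
  have hm := card_le_mul (inv_orbit N a)
  have hA := Nat.le_of_dvd (by norm_num) hF
  have h1 : 2 * Nat.card (res (inv_orbit N a).not).range = 2 ^ nilNu (Nat.card α - 3) := by
    have := Nat.mul_le_mul_right (Nat.card (res (inv_orbit N a).not).range) hA
    omega
  have h2 : Nat.card (res (inv_orbit N a)).range = 3 := by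
    have h := Nat.mul_le_mul_left 2 hm
    rw [hcard, mul_left_comm, h1] at h
    exact le_antisymm hA (Nat.le_of_mul_le_mul_right h (by omega))
  exact ⟨_, inferInstance, _, ha, rest_even N hN hev a (by rw [ha]; decide), h1,
    eq_stdGroup_aux N a ha h2 (by omega)⟩

/-- The last three points of `Fin n`. -/
def lastThree (n : ℕ) (i : Fin n) : Prop := n - 3 ≤ (i : ℕ)

instance (n : ℕ) : DecidablePred (lastThree n) := fun i => inferInstanceAs (Decidable (_ ≤ _))

/-- The other points. -/
def restEquiv (n : ℕ) : Fin (n - 3) ≃ {i : Fin n // ¬lastThree n i} where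
  toFun i := ⟨⟨i, by omega⟩, by simp only [lastThree, not_le]; exact i.2⟩
  invFun i := ⟨(i : Fin n), by
    have := i.2
    simp only [lastThree, not_le] at this
    exact this⟩
  left_inv _ := rfl
  right_inv _ := rfl

theorem card_lastThree {n : ℕ} (hn : 3 ≤ n) : Nat.card {i : Fin n // lastThree n i} = 3 := by
  have h := card_add_not (α := Fin n) (lastThree n)
  rw [← Nat.card_congr (restEquiv n), Nat.card_fin, Nat.card_fin] at h
  omega

end Cfsg.Agent.Lib.Alt.Nil
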