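import Mathlib

/-!
Numerics for the orders of nilpotent permutation groups: `nilNu n = v₂(n!)`,
`nilF d = ∏_{p^k ∥ d} p^(v_p((p^k)!))`, the bound for a transitive nilpotent group of degree `d`,
and the bounds `nilH`, `nilK` for arbitrary nilpotent (even) groups of degree `n`.
-/

set_option autoImplicit false

namespace Cfsg.Agent.Lib.Alt.Nil

open Finset

/-- The exponent of a Sylow 2-subgroup of the symmetric group of degree `n`. -/
def nilNu (n : ℕ) : ℕ := padicValNat 2 n.factorial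

theorem nilNu_zero : nilNu 0 = 0 := by simp [nilNu]

theorem nilNu_rec (n : ℕ) : nilNu n = n / 2 + nilNu (n / 2) := by
  haveI : Fact (Nat.Prime 2) := ⟨Nat.prime_two⟩
  unfold nilNu
  conv_lhs => rw [← Nat.div_add_mod n 2]
  rw [padicValNat_factorial_mul_add _ (Nat.mod_lt _ (by norm_num)), padicValNat_factorial_mul]
  ring

theorem nilNu_add (a b : ℕ) : nilNu a + nilNu b ≤ nilNu (a + b) := by
  haveI : Fact (Nat.Prime 2) := ⟨Nat.prime_two⟩
  unfold nilNu
  rw [← padicValNat.mul a.factorial_ne_zero b.factorial_ne_zero,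
    ← padicValNat_dvd_iff_le (Nat.factorial_ne_zero _)]
  exact pow_padicValNat_dvd.trans (Nat.factorial_mul_factorial_dvd_factorial_add a b)

theorem nilNu_mono {a b : ℕ} (h : a ≤ b) : nilNu a ≤ nilNu b := by
  obtain ⟨c, rfl⟩ := Nat.exists_eq_add_of_le h
  have := nilNu_add a c
  omega

theorem nilNu_one : nilNu 1 = 0 := by simp [nilNu]

/-- Evaluate `nilNu` at a literal. -/
theorem nilNu_small : nilNu 2 = 1 ∧ nilNu 3 = 1 ∧ nilNu 4 = 3 ∧ nilNu 5 = 3 ∧ nilNu 6 = 4 ∧
    nilNu 7 = 4 ∧ nilNu 8 = 7 ∧ nilNu 9 = 7 ∧ nilNu 10 = 8 ∧ nilNu 11 = 8 ∧ nilNu 12 = 10 ∧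
    nilNu 13 = 10 ∧ nilNu 14 = 11 ∧ nilNu 15 = 11 := by
  have r := nilNu_rec
  have h1 := nilNu_one
  have h2 := r 2; have h3 := r 3; have h4 := r 4; have h5 := r 5; have h6 := r 6; have h7 := r 7
  have h8 := r 8; have h9 := r 9; have h10 := r 10; have h11 := r 11; have h12 := r 12
  have h13 := r 13; have h14 := r 14; have h15 := r 15
  norm_num at h2 h3 h4 h5 h6 h7 h8 h9 h10 h11 h12 h13 h14 h15
  omega

theorem four_mul_le (m : ℕ) : 4 * m ≤ 5 * nilNu m + 9 := by
  induction m using Nat.strong_induction_on with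
  | _ m ih =>
    rcases lt_or_ge m 8 with h | h
    · obtain ⟨-, -, -, -, -, -, -, -, -, -, -, -, -, -⟩ := nilNu_small
      have := nilNu_small
      have := nilNu_zero
      have := nilNu_one
      interval_cases m <;> omega
    · have := nilNu_rec m
      have := ih (m / 2) (by omega)
      omega

theorem four_mul_lt {m : ℕ} (hm : 16 ≤ m) : 4 * m + 1 ≤ 5 * nilNu m := by
  have r := nilNu_rec m
  rcases lt_or_ge m 28 with h | h
  · have := nilNu_small
    interval_cases m <;> norm_num at r <;> omega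
  · have := four_mul_le (m / 2)
    omega

theorem five_pow_bound : ∀ {p : ℕ}, 3 ≤ p → p ^ 5 ≤ 2 ^ (4 * (p - 1)) := by
  intro p hp
  induction p, hp using Nat.le_induction with
  | base => norm_num
  | succ p hp ih =>
    have h1 : (3 * (p + 1)) ^ 5 ≤ (4 * p) ^ 5 := Nat.pow_le_pow_left (by omega) 5
    rw [mul_pow, mul_pow] at h1
    have h2 : (p + 1) ^ 5 ≤ 16 * p ^ 5 := by omega
    have h3 : 2 ^ (4 * (p + 1 - 1)) = 16 * 2 ^ (4 * (p - 1)) := by
      rw [show 4 * (p + 1 - 1) = 4 * (p - 1) + 4 from by omega, pow_add]; ring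
    rw [h3]
    omega

/-- The bound for the order of a transitive nilpotent group of degree `d`. -/
def nilF (d : ℕ) : ℕ :=
  ∏ p ∈ d.primeFactors, p ^ padicValNat p (p ^ d.factorization p).factorial

theorem nilF_one : nilF 1 = 1 := by simp [nilF]

theorem nilF_mul {a b : ℕ} (hab : Nat.Coprime a b) : nilF (a * b) = nilF a * nilF b := by
  unfold nilF
  rw [hab.primeFactors_mul, Finset.prod_union hab.disjoint_primeFactors]
  congr 1
  · refine Finset.prod_congr rfl fun p hp => ?_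
    rw [Nat.factorization_eq_of_coprime_left hab (Nat.mem_primeFactors_iff_mem_primeFactorsList.mp hp)]
  · refine Finset.prod_congr rfl fun p hp => ?_
    rw [Nat.factorization_eq_of_coprime_right hab (Nat.mem_primeFactors_iff_mem_primeFactorsList.mp hp)]

theorem nilF_prime_pow {p k : ℕ} (hp : p.Prime) (hk : k ≠ 0) :
    nilF (p ^ k) = p ^ padicValNat p (p ^ k).factorial := by
  unfold nilF
  rw [Nat.primeFactors_prime_pow hk hp, Finset.prod_singleton, hp.factorization_pow,
    Finsupp.single_eq_same]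

theorem nilF_two_pow (a : ℕ) : nilF (2 ^ a) = 2 ^ nilNu (2 ^ a) := by
  rcases Nat.eq_zero_or_pos a with rfl | ha
  · simp [nilF_one, nilNu_one]
  · rw [nilF_prime_pow Nat.prime_two ha.ne']; rfl

theorem nilF_prime {p : ℕ} (hp : p.Prime) : nilF p = p := by
  haveI : Fact p.Prime := ⟨hp⟩
  have h := nilF_prime_pow hp one_ne_zero
  rw [pow_one] at h
  have h1 : padicValNat p p.factorial = 1 := by
    have := padicValNat_factorial_mul (p := p) 1
    simpa using this
  rw [h, h1, pow_one]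

theorem nilF_pow_le : ∀ {m : ℕ}, Odd m → nilF m ^ 5 ≤ 2 ^ (4 * (m - 1)) := by
  intro m
  induction m using Nat.recOnPrimeCoprime with
  | zero => intro h; simp at h
  | prime_pow p k hp =>
    intro hodd
    rcases Nat.eq_zero_or_pos k with rfl | hk
    · simp [nilF_one]
    haveI : Fact p.Prime := ⟨hp⟩
    have hp3 : 3 ≤ p := by
      rcases Nat.lt_or_ge p 3 with h | h
      · exfalso
        have : p = 2 := le_antisymm (by omega) hp.two_le
        subst this
        rw [Nat.odd_pow_iff hk.ne'] at hodd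
        exact absurd hodd (by decide)
      · exact h
    have hv : (p - 1) * padicValNat p (p ^ k).factorial = p ^ k - 1 := by
      rw [sub_one_mul_padicValNat_factorial, ← mul_one (p ^ k), Nat.digits_base_pow_mul hp.one_lt one_pos]
      simp [Nat.digits_of_lt p 1 one_ne_zero hp.one_lt]
    rw [nilF_prime_pow hp hk.ne', ← pow_mul, mul_comm, pow_mul, ← hv, ← mul_assoc,
      pow_mul 2 (4 * (p - 1))]
    exact Nat.pow_le_pow_left (five_pow_bound hp3) _
  | coprime a b ha hb hab iha ihb =>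
    intro hodd
    rw [Nat.odd_mul] at hodd
    rw [nilF_mul hab, mul_pow]
    refine (Nat.mul_le_mul (iha hodd.1) (ihb hodd.2)).trans ?_
    rw [← pow_add]
    refine Nat.pow_le_pow_right (by norm_num) ?_
    have h1 : 0 < a := hodd.1.pos
    have h2 : 0 < b := hodd.2.pos
    nlinarith [Nat.mul_le_mul h1 h2, Nat.sub_add_cancel h1, Nat.sub_add_cancel h2,
      Nat.sub_add_cancel (Nat.mul_pos h1 h2)]

theorem nilF_pos (d : ℕ) : 0 < nilF d :=
  Finset.prod_pos fun _ hp => pow_pos (Nat.prime_of_mem_primeFactors hp).pos _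

theorem nilF_odd {d : ℕ} (hd : Odd d) : Odd (nilF d) := by
  unfold nilF
  refine Finset.prod_induction _ Odd (fun _ _ => Odd.mul) odd_one fun p hp => ?_
  exact Odd.pow (hd.of_dvd_nat (Nat.dvd_of_mem_primeFactors hp))

theorem nilF_small : nilF 3 = 3 ∧ nilF 5 = 5 ∧ nilF 7 = 7 ∧ nilF 9 = 81 ∧ nilF 11 = 11 ∧
    nilF 13 = 13 ∧ nilF 15 = 15 := by
  refine ⟨nilF_prime (by norm_num), nilF_prime (by norm_num), nilF_prime (by norm_num), ?_,
    nilF_prime (by norm_num), nilF_prime (by norm_num), ?_⟩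
  · haveI : Fact (Nat.Prime 3) := ⟨Nat.prime_three⟩
    have h := nilF_prime_pow (k := 2) Nat.prime_three (by norm_num)
    have hv : padicValNat 3 (3 ^ 2).factorial = 4 := by
      have := sub_one_mul_padicValNat_factorial (p := 3) 9
      norm_num at this ⊢
      omega
    rw [hv] at h
    exact h
  · rw [show (15 : ℕ) = 3 * 5 from rfl, nilF_mul (by norm_num), nilF_prime (by norm_num),
      nilF_prime (by norm_num)]

theorem le_of_pow_five_le {a b : ℕ} (h : a ^ 5 ≤ 2 ^ (5 * b)) : a ≤ 2 ^ b := by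
  rw [mul_comm, pow_mul] at h
  exact le_of_pow_le_pow_left₀ (by norm_num) (Nat.zero_le _) h

/-- For `d` odd, `d ∉ {1,3,5,9}`, `2·nilF d ≤ 2^(nilNu d)`. -/
theorem two_mul_nilF_le_odd {d : ℕ} (hd : Odd d) (h1 : d ≠ 1) (h3 : d ≠ 3) (h5 : d ≠ 5)
    (h9 : d ≠ 9) : 2 * nilF d ≤ 2 ^ nilNu d := by
  rcases lt_or_ge d 16 with h | h
  · obtain ⟨f3, f5, f7, f9, f11, f13, f15⟩ := nilF_small
    obtain ⟨-, n3, -, n5, -, n7, -, n9, -, n11, -, n13, -, n15⟩ := nilNu_small
    rw [Nat.odd_iff] at hd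
    interval_cases d <;> simp_all
  · have hn := four_mul_lt h
    have := nilF_pow_le hd
    have hd1 : 1 ≤ nilNu d := by omega
    refine (Nat.mul_le_mul_left 2 (le_of_pow_five_le (b := nilNu d - 1)
      (this.trans (Nat.pow_le_pow_right (by norm_num) (by omega))))).trans ?_
    rw [← pow_succ', Nat.sub_add_cancel hd1]

theorem two_mul_nilF_le_even {d : ℕ} (hd : Even d) (hd0 : d ≠ 0) (h2 : ∀ a, d ≠ 2 ^ a) :
    2 * nilF d ≤ 2 ^ nilNu d := by
  obtain ⟨a, m, hm, rfl⟩ := Nat.exists_eq_two_pow_mul_odd hd0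
  have ha : 1 ≤ a := by
    rcases Nat.eq_zero_or_pos a with rfl | h
    · rw [pow_zero, one_mul] at hd
      exact absurd hd (Nat.not_even_iff_odd.mpr hm)
    · exact h
  have hm3 : 3 ≤ m := by
    rcases lt_or_ge m 3 with h | h
    · have : m = 1 := by rcases hm with ⟨j, rfl⟩; omega
      subst this
      exact absurd (mul_one _) (h2 a)
    · exact h
  have hcop : Nat.Coprime (2 ^ a) m := Nat.Coprime.pow_left a (Nat.coprime_two_left.mpr hm)
  rw [nilF_mul hcop, nilF_two_pow]
  have hnu : nilNu (2 ^ a * m) = (2 ^ a - 1) * m + nilNu m := by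
    clear hcop hd hd0 h2 ha
    induction a with
    | zero => simp
    | succ a ih =>
      rw [nilNu_rec, show 2 ^ (a + 1) * m = 2 * (2 ^ a * m) by rw [pow_succ]; ring,
        Nat.mul_div_cancel_left _ (by norm_num : 0 < 2), ih, Nat.sub_mul, Nat.sub_mul, pow_succ]
      have : 1 * m ≤ 2 ^ a * m := Nat.mul_le_mul_right _ Nat.one_le_two_pow
      rw [mul_comm (2 ^ a) 2, mul_assoc 2 (2 ^ a) m]
      omega
  have hnu2 : nilNu (2 ^ a) = 2 ^ a - 1 := by
    clear hnu hcop hd hd0 h2 ha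
    induction a with
    | zero => simp [nilNu_one]
    | succ a ih =>
      rw [nilNu_rec, pow_succ, Nat.mul_div_cancel _ (by norm_num : 0 < 2), ih]
      have := Nat.one_le_two_pow (n := a)
      omega
  have hx : 1 ≤ 2 ^ a - 1 := by
    have : 2 ^ 1 ≤ 2 ^ a := Nat.pow_le_pow_right (by norm_num) ha
    omega
  have hxm : (2 ^ a - 1) + 2 ≤ (2 ^ a - 1) * m := by
    nlinarith
  have := four_mul_le m
  have hle : nilF m ≤ 2 ^ (nilNu (2 ^ a * m) - nilNu (2 ^ a) - 1) := by
    refine le_of_pow_five_le ((nilF_pow_le hm).trans (Nat.pow_le_pow_right (by norm_num) ?_))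
    rw [hnu, hnu2]
    omega
  calc 2 * (2 ^ nilNu (2 ^ a) * nilF m)
      ≤ 2 * (2 ^ nilNu (2 ^ a) * 2 ^ (nilNu (2 ^ a * m) - nilNu (2 ^ a) - 1)) := by
        gcongr
    _ = _ := by
        rw [← pow_add, ← pow_succ']
        congr 1
        rw [hnu, hnu2]
        omega

theorem nilF_le {d : ℕ} (hd0 : d ≠ 0) (h3 : d ≠ 3) : nilF d ≤ 2 ^ nilNu d := by
  by_cases hp : ∃ a, d = 2 ^ a
  · obtain ⟨a, rfl⟩ := hp
    rw [nilF_two_pow]
  push Not at hp
  rcases Nat.even_or_odd d with he | ho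
  · have := two_mul_nilF_le_even he hd0 hp
    omega
  · have h1 : d ≠ 1 := fun h => hp 0 (by rw [h, pow_zero])
    obtain ⟨-, f5, -, f9, -, -, -⟩ := nilF_small
    obtain ⟨-, -, -, n5, -, -, -, n9, -, -, -, -, -, -⟩ := nilNu_small
    by_cases h5 : d = 5
    · subst h5; rw [f5, n5]; norm_num
    by_cases h9 : d = 9
    · subst h9; rw [f9, n9]; norm_num
    have := two_mul_nilF_le_odd ho h1 h3 h5 h9
    omega

theorem nu_add_three {r : ℕ} :
    (r % 4 = 1 → nilNu r + 3 ≤ nilNu (r + 3)) ∧ (r % 4 = 2 → nilNu r + 2 ≤ nilNu (r + 3)) ∧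
      (r % 4 = 3 → nilNu (r - 3) + 4 ≤ nilNu (r + 3)) ∧
      (r % 4 = 3 → nilNu r = nilNu (r - 3) + 1) := by
  have e : ∀ n, nilNu n = n / 2 + n / 4 + nilNu (n / 4) := by
    intro n
    rw [nilNu_rec n, nilNu_rec (n / 2), Nat.div_div_eq_div_mul]
    ring
  have hm : ∀ a b, a ≤ b → nilNu a ≤ nilNu b := fun a b => nilNu_mono
  refine ⟨fun h => ?_, fun h => ?_, fun h => ?_, fun h => ?_⟩
  · have := e r; have := e (r + 3); have := hm (r / 4) ((r + 3) / 4) (by omega)
    omega
  · have := e r; have := e (r + 3); have := hm (r / 4) ((r + 3) / 4) (by omega)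
    omega
  · have := e (r - 3); have := e (r + 3); have := hm ((r - 3) / 4) ((r + 3) / 4) (by omega)
    omega
  · have := e (r - 3); have := e r
    have h' : nilNu ((r - 3) / 4) = nilNu (r / 4) := by congr 1; omega
    omega

/-- The bound for nilpotent groups of degree `n`. -/
def nilH (n : ℕ) : ℕ := if n % 4 = 3 then 3 * 2 ^ nilNu (n - 3) else 2 ^ nilNu n

theorem two_pow_le_nilH (n : ℕ) : 2 ^ nilNu n ≤ nilH n := by
  unfold nilH
  split_ifs with h
  · rw [(nu_add_three (r := n)).2.2.2 h, pow_succ]; omega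
  · exact le_rfl

theorem three_mul_nilH_le (r : ℕ) : 3 * nilH r ≤ nilH (r + 3) := by
  obtain ⟨g1, g2, g3, g4⟩ := nu_add_three (r := r)
  have hr : r % 4 = 0 ∨ r % 4 = 1 ∨ r % 4 = 2 ∨ r % 4 = 3 := by omega
  rcases hr with h | h | h | h
  · rw [nilH, nilH, if_neg (by omega), if_pos (by omega), Nat.add_sub_cancel]
  · rw [nilH, nilH, if_neg (by omega), if_neg (by omega)]
    have := Nat.pow_le_pow_right (show 0 < 2 by norm_num) (g1 h)
    rw [pow_add] at this; omega
  · rw [nilH, nilH, if_neg (by omega), if_neg (by omega)]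
    have := Nat.pow_le_pow_right (show 0 < 2 by norm_num) (g2 h)
    rw [pow_add] at this; omega
  · rw [nilH, nilH, if_pos h, if_neg (by omega)]
    have := Nat.pow_le_pow_right (show 0 < 2 by norm_num) (g3 h)
    rw [pow_add] at this; omega

/-- Twice the bound for even nilpotent groups of degree `n`. -/
def nilK (n : ℕ) : ℕ :=
  if n ≤ 1 then 2 else if n = 3 then 6 else if n = 5 then 10 else if n = 6 then 18
  else if n = 9 then 162 else nilH n

theorem two_pow_le_nilK {n : ℕ} (hn : 2 ≤ n) : 2 ^ nilNu n ≤ nilK n := by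
  obtain ⟨-, n3, -, n5, n6, -, -, n9, -⟩ := nilNu_small
  unfold nilK
  split_ifs with h1 h3 h5 h6 h9
  · omega
  · subst h3; rw [n3]; norm_num
  · subst h5; rw [n5]; norm_num
  · subst h6; rw [n6]; norm_num
  · subst h9; rw [n9]; norm_num
  · exact two_pow_le_nilH n

theorem nilK_le_two_mul {r : ℕ} (h3 : r ≠ 3) : nilK r ≤ 2 * 2 ^ nilNu r := by
  obtain ⟨-, -, -, n5, n6, -, -, n9, -⟩ := nilNu_small
  unfold nilK
  split_ifs with h1 h5 h6 h9
  · have := Nat.one_le_two_pow (n := nilNu r); omega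
  · subst h5; rw [n5]; norm_num
  · subst h6; rw [n6]; norm_num
  · subst h9; rw [n9]; norm_num
  · unfold nilH
    split_ifs with h
    · rw [(nu_add_three (r := r)).2.2.2 h, pow_succ]; omega
    · omega

theorem two_mul_nilK_le {r : ℕ} (h2 : 2 ≤ r) (h3 : r ≠ 3) : 2 * nilK r ≤ 3 * 2 ^ nilNu r := by
  obtain ⟨-, -, -, n5, n6, -, -, n9, -⟩ := nilNu_small
  unfold nilK
  split_ifs with h1 h5 h6 h9
  · omega
  · subst h5; rw [n5]; norm_num
  · subst h6; rw [n6]; norm_num
  · subst h9; rw [n9]; norm_num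
  · unfold nilH
    split_ifs with h
    · rw [(nu_add_three (r := r)).2.2.2 h, pow_succ]; omega
    · omega

theorem three_mul_nilK_le (r : ℕ) : 3 * nilK r ≤ nilK (r + 3) := by
  obtain ⟨n2, n3, n4, n5, n6, n7, n8, n9, n10, n11, n12, n13, n14, n15⟩ := nilNu_small
  rcases lt_or_ge r 10 with h | h
  · interval_cases r <;> simp [nilK, nilH, nilNu_zero, nilNu_one, *]
  · have e1 : nilK r = nilH r := by
      unfold nilK; rw [if_neg (by omega), if_neg (by omega), if_neg (by omega), if_neg (by omega),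
        if_neg (by omega)]
    have e2 : nilK (r + 3) = nilH (r + 3) := by
      unfold nilK; rw [if_neg (by omega), if_neg (by omega), if_neg (by omega), if_neg (by omega),
        if_neg (by omega)]
    rw [e1, e2]
    exact three_mul_nilH_le r

/-- The step for the even bound: one odd orbit of size `d ≥ 3`. -/
theorem nilF_mul_nilK_le {d r : ℕ} (hd : Odd d) (h1 : d ≠ 1) :
    nilF d * nilK r ≤ nilK (d + r) := by
  obtain ⟨f3, f5, f7, f9, f11, f13, f15⟩ := nilF_small
  obtain ⟨n2, n3, n4, n5, n6, n7, n8, n9, n10, n11, n12, n13, n14, n15⟩ := nilNu_small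
  by_cases hd3 : d = 3
  · subst hd3; rw [f3, add_comm]; exact three_mul_nilK_le r
  have hd2 : 2 ≤ d := by rcases hd with ⟨j, rfl⟩; omega
  have hK : nilK 3 = 6 := by simp [nilK]
  have hsum : 2 ^ nilNu d * 2 ^ nilNu r ≤ nilK (d + r) := by
    rw [← pow_add]
    exact (Nat.pow_le_pow_right (by norm_num) (nilNu_add d r)).trans
      (two_pow_le_nilK (by omega))
  by_cases h59 : d = 5 ∨ d = 9
  · by_cases hr : r ≤ 3
    · rcases h59 with rfl | rfl <;> interval_cases r <;>
        simp [nilK, nilH, nilNu_zero, nilNu_one, *]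
    · have := two_mul_nilK_le (r := r) (by omega) (by omega)
      rcases h59 with rfl | rfl
      · rw [f5]; rw [n5] at hsum; omega
      · rw [f9]; rw [n9] at hsum; omega
  push Not at h59
  have hf := two_mul_nilF_le_odd hd h1 hd3 h59.1 h59.2
  by_cases hr : r = 3
  · subst hr
    rw [hK]
    have := Nat.pow_le_pow_right (show 0 < 2 by norm_num)
      (show nilNu d + 3 ≤ nilNu (d + 3) by
        rcases (show d % 4 = 1 ∨ d % 4 = 3 by rcases hd with ⟨j, rfl⟩; omega) with h | h
        · exact (nu_add_three (r := d)).1 h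
        · have := (nu_add_three (r := d)).2.2.1 h
          have := (nu_add_three (r := d)).2.2.2 h
          omega)
    rw [pow_add] at this
    have := two_pow_le_nilK (n := d + 3) (by omega)
    omega
  · calc nilF d * nilK r ≤ nilF d * (2 * 2 ^ nilNu r) := Nat.mul_le_mul_left _ (nilK_le_two_mul hr)
      _ = (2 * nilF d) * 2 ^ nilNu r := by ring
      _ ≤ 2 ^ nilNu d * 2 ^ nilNu r := Nat.mul_le_mul_right _ hf
      _ ≤ _ := hsum

/-- In degree `≡ 3 mod 4` equality forces an orbit of size `3`. -/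
theorem nilF_mul_nilK_lt {d r : ℕ} (hd : Odd d) (h1 : d ≠ 1) (h3 : d ≠ 3)
    (hn : (d + r) % 4 = 3) (hn7 : 7 ≤ d + r) :
    nilF d * nilK r < 3 * 2 ^ nilNu (d + r - 3) := by
  obtain ⟨f3, f5, f7, f9, f11, f13, f15⟩ := nilF_small
  obtain ⟨n2, n3, n4, n5, n6, n7, n8, n9, n10, n11, n12, n13, n14, n15⟩ := nilNu_small
  have hr3 : r ≠ 3 := by rcases hd with ⟨j, rfl⟩; omega
  have hd2 : 2 ≤ d := by rcases hd with ⟨j, rfl⟩; omega
  have hsum : 2 ^ nilNu d * 2 ^ nilNu r < 3 * 2 ^ nilNu (d + r - 3) := by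
    rw [← pow_add]
    refine (Nat.pow_le_pow_right (by norm_num) (nilNu_add d r)).trans_lt ?_
    rw [(nu_add_three (r := d + r)).2.2.2 hn, pow_succ]
    have := Nat.one_le_two_pow (n := nilNu (d + r - 3))
    omega
  refine lt_of_le_of_lt ?_ hsum
  by_cases h59 : d = 5 ∨ d = 9
  · have := two_mul_nilK_le (r := r) (by rcases h59 with rfl | rfl <;> omega) hr3
    rcases h59 with rfl | rfl
    · rw [f5, n5]; omega
    · rw [f9, n9]; omega
  push Not at h59
  calc nilF d * nilK r ≤ nilF d * (2 * 2 ^ nilNu r) := Nat.mul_le_mul_left _ (nilK_le_two_mul hr3)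
    _ = (2 * nilF d) * 2 ^ nilNu r := by ring
    _ ≤ _ := Nat.mul_le_mul_right _ (two_mul_nilF_le_odd hd h1 h3 h59.1 h59.2)

end Cfsg.Agent.Lib.Alt.Nil
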