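import Cfsg.Agent.Lib.Alt.NilNum

/-!
Nilpotent permutation groups of largest order: transitive bound, splitting along orbits,
and the bounds with their equality cases.
-/

set_option autoImplicit false

namespace Cfsg.Agent.Lib.Alt.Nil

open Equiv MulAction

universe u

variable {α : Type u} [Fintype α] [DecidableEq α]

/-- In a finite nilpotent group every element is a product of an element of a Sylow `p`-subgroup
and an element centralising it. -/
theorem exists_mul_of_nilpotent {G : Type*} [Group G] [Finite G] (hG : Group.IsNilpotent G)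
    (p : ℕ) [hp : Fact p.Prime] (P : Sylow p G) (g : G) :
    ∃ q ∈ (P : Subgroup G), ∃ u : G, (∀ x ∈ (P : Subgroup G), x * u = u * x) ∧ g = q * u := by
  haveI := hG
  set D : Subgroup G := (P : Subgroup G) ⊔ Subgroup.centralizer (P : Set G) with hD
  have htop : D = ⊤ := by
    rw [← Subgroup.card_eq_iff_eq_top]
    refine Nat.dvd_antisymm (Subgroup.card_subgroup_dvd_card D) ?_
    rw [← Nat.factorization_le_iff_dvd Nat.card_pos.ne' Nat.card_pos.ne']
    intro r
    by_cases hr : r.Prime
    · haveI : Fact r.Prime := ⟨hr⟩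
      obtain ⟨Q⟩ : Nonempty (Sylow r G) := inferInstance
      have hQD : (Q : Subgroup G) ≤ D := by
        by_cases hrp : r = p
        · subst hrp
          obtain ⟨x, hx⟩ := MulAction.exists_smul_eq G P Q
          rw [← hx, Sylow.smul_eq_of_normal]
          exact le_sup_left
        · refine le_trans (fun x hx => ?_) le_sup_right
          rw [Subgroup.mem_centralizer_iff]
          intro y hy
          exact (Subgroup.commute_of_normal_of_disjoint (Q : Subgroup G) (P : Subgroup G)
            inferInstance inferInstance (IsPGroup.disjoint_of_ne r p hrp _ _ Q.2 P.2) x y hx hy).eq.symm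
      have h1 := Subgroup.card_dvd_of_le hQD
      rw [Q.card_eq_multiplicity] at h1
      exact (hr.pow_dvd_iff_le_factorization Nat.card_pos.ne').mp h1
    · simp [Nat.factorization_eq_zero_of_not_prime _ hr]
  have hg : g ∈ ((D : Subgroup G) : Set G) := by rw [htop]; trivial
  rw [hD, Subgroup.normal_mul] at hg
  obtain ⟨q, hq, u, hu, hqu⟩ := hg
  exact ⟨q, hq, u, fun x hx => Subgroup.mem_centralizer_iff.mp hu x hx, hqu.symm⟩

/-- A transitive nilpotent group of degree `d` has order dividing `nilF d`. -/
theorem card_dvd_nilF (G : Subgroup (Perm α)) (hG : Group.IsNilpotent G)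
    [hT : IsPretransitive G α] [hne : Nonempty α] : Nat.card G ∣ nilF (Nat.card α) := by
  classical
  obtain ⟨a⟩ := hne
  have : Nonempty α := ⟨a⟩
  rw [← Nat.factorization_le_iff_dvd Nat.card_pos.ne' (nilF_pos _).ne']
  intro p
  by_cases hp : p.Prime
  swap
  · simp [Nat.factorization_eq_zero_of_not_prime _ hp]
  haveI : Fact p.Prime := ⟨hp⟩
  obtain ⟨P⟩ : Nonempty (Sylow p G) := inferInstance
  set k := (Nat.card α).factorization p with hk
  -- the orbit of `a` under `P` has `p ^ j` points with `j ≤ k`
  let O : Set α := MulAction.orbit (P : Subgroup G) a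
  have hpres : ∀ x : (P : Subgroup G), ∀ b, b ∈ O ↔ (((x : G) : Perm α)) b ∈ O := by
    intro x b
    constructor
    · rintro ⟨y, rfl⟩
      exact ⟨x * y, rfl⟩
    · rintro ⟨y, hy⟩
      refine ⟨x⁻¹ * y, ?_⟩
      have hy' : ((y : G) : Perm α) a = ((x : G) : Perm α) b := hy
      show (((x : G) : Perm α))⁻¹ (((y : G) : Perm α) a) = b
      rw [hy']; simp
  let res : (P : Subgroup G) →* Perm O :=
    { toFun := fun x => ((x : G) : Perm α).subtypePerm fun b => (hpres x b).symm
      map_one' := Equiv.ext fun b => Subtype.ext rfl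
      map_mul' := fun x y => Equiv.ext fun b => Subtype.ext rfl }
  have hinj : Function.Injective res := by
    intro x y hxy
    apply Subtype.ext; apply Subtype.ext
    apply Equiv.ext
    intro b
    obtain ⟨g, rfl⟩ := MulAction.exists_smul_eq G a b
    obtain ⟨q, hq, u, hu, rfl⟩ := exists_mul_of_nilpotent hG p P g
    have hb : ∀ z : (P : Subgroup G), ((z : G) : Perm α) ((q * u) • a) =
        ((u : G) : Perm α) (((z : G) : Perm α) ((q : Perm α) a)) := by
      intro z
      have h1 : (z : G) * (q * u) = u * ((z : G) * q) := by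
        rw [← mul_assoc, hu _ (mul_mem z.2 hq)]
      exact DFunLike.congr_fun (congrArg Subtype.val h1) a
    rw [hb x, hb y]
    congr 1
    have := DFunLike.congr_fun hxy ⟨(q : Perm α) a, ⟨q, hq⟩, rfl⟩
    exact congrArg Subtype.val this
  have hcardO : Nat.card O ∣ p ^ k := by
    have h1 : Nat.card O = (stabilizer (P : Subgroup G) a).index :=
      (MulAction.index_stabilizer (P : Subgroup G) a).symm
    obtain ⟨m, hm⟩ := IsPGroup.iff_card.mp P.2
    have h2 : Nat.card O ∣ p ^ m := by
      rw [h1, ← hm]
      exact (stabilizer (P : Subgroup G) a).index_dvd_card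
    obtain ⟨j, -, hj⟩ := (Nat.dvd_prime_pow hp).mp h2
    rw [hj]
    refine pow_dvd_pow p ?_
    have h3 : Nat.card O ∣ Nat.card α := by
      rw [h1, ← MulAction.index_stabilizer_of_transitive G a]
      have h4 : stabilizer (P : Subgroup G) a = (stabilizer G a).subgroupOf (P : Subgroup G) := by
        ext x; rfl
      rw [h4]
      show (stabilizer G a).relIndex (P : Subgroup G) ∣ _
      haveI := hG
      have h5 := Subgroup.relIndex_sup_left (K := (P : Subgroup G)) (H := stabilizer G a)
      refine dvd_trans ?_ (Subgroup.index_dvd_of_le (le_refl _))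
      have h6 := Subgroup.relIndex_mul_index (le_sup_right : stabilizer G a ≤ (P : Subgroup G) ⊔ stabilizer G a)
      rw [← h6]
      refine dvd_mul_of_dvd_left ?_ _
      have h7 : ((P : Subgroup G) ⊔ stabilizer G a : Subgroup G) = stabilizer G a ⊔ (P : Subgroup G) :=
        sup_comm _ _
      have h8 : (stabilizer G a).relIndex ((P : Subgroup G) ⊔ stabilizer G a) =
          (stabilizer G a).relIndex (P : Subgroup G) := by
        have e1 := Subgroup.relIndex_mul_index (le_sup_right : stabilizer G a ≤ (P : Subgroup G) ⊔ stabilizer G a)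
        have e2 : (stabilizer G a).relIndex (P : Subgroup G) * (P : Subgroup G).relIndex (stabilizer G a) ≠ 0 := by
          simp [Subgroup.relIndex, Subgroup.index_ne_zero_of_finite]
        have e3 := Subgroup.inf_relIndex_right (stabilizer G a) (P : Subgroup G)
        have e4 := Subgroup.inf_relIndex_left (stabilizer G a) (P : Subgroup G)
        have e5 := Subgroup.relIndex_mul_relIndex (stabilizer G a ⊓ (P : Subgroup G)) (stabilizer G a)
          ((P : Subgroup G) ⊔ stabilizer G a) inf_le_left le_sup_right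
        have e6 := Subgroup.relIndex_mul_relIndex (stabilizer G a ⊓ (P : Subgroup G)) (P : Subgroup G)
          ((P : Subgroup G) ⊔ stabilizer G a) inf_le_right le_sup_left
        rw [e3] at e6
        rw [e4, e6.symm.trans (by rw [h5])] at e5
        exact Nat.eq_of_mul_eq_mul_left (Nat.pos_of_ne_zero (right_ne_zero_of_mul e2))
          (by rw [e5, mul_comm])
      rw [h8]
    exact (hp.pow_dvd_iff_le_factorization Nat.card_pos.ne').mp (hj ▸ h3)
  have hdvd : Nat.card (P : Subgroup G) ∣ (p ^ k).factorial := by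
    refine (Subgroup.card_dvd_of_injective res hinj).trans ?_
    rw [Nat.card_perm]
    exact Nat.factorial_dvd_factorial (Nat.le_of_dvd (pow_pos hp.pos _) hcardO)
  rw [P.card_eq_multiplicity, padicValNat_dvd_iff_le (Nat.factorial_ne_zero _)] at hdvd
  refine hdvd.trans ?_
  by_cases hpd : p ∈ (Nat.card α).primeFactors
  · refine (hp.pow_dvd_iff_le_factorization (nilF_pos _).ne').mp ?_
    exact Finset.dvd_prod_of_mem (fun q => q ^ padicValNat q (q ^ (Nat.card α).factorization q).factorial) hpd
  · have : k = 0 := by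
      rw [hk]
      exact Finsupp.notMem_support_iff.mp (by rwa [Nat.support_factorization])
    simp [this]

/-! ### Splitting along an invariant set -/

variable (p : α → Prop) [DecidablePred p]

/-- `N` leaves `p` invariant. -/
def Inv (N : Subgroup (Perm α)) : Prop := ∀ g ∈ N, ∀ x, p (g x) ↔ p x

theorem Inv.not {N : Subgroup (Perm α)} (h : Inv p N) : Inv (fun x => ¬p x) N :=
  fun g hg x => not_congr (h g hg x)

variable {p}

/-- The restriction of an invariant group to a part. -/
def res {N : Subgroup (Perm α)} (h : Inv p N) : N →* Perm {x // p x} where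
  toFun g := (g : Perm α).subtypePerm (h _ g.2)
  map_one' := Equiv.ext fun b => Subtype.ext rfl
  map_mul' _ _ := Equiv.ext fun b => Subtype.ext rfl

@[simp] theorem res_apply {N : Subgroup (Perm α)} (h : Inv p N) (g : N) (x : {x // p x}) :
    ((res h g x : {x // p x}) : α) = (g : Perm α) x := rfl

theorem le_map {N : Subgroup (Perm α)} (h : Inv p N) :
    N ≤ (((res h).range).prod (res h.not).range).map (Perm.subtypeCongrHom p) := by
  intro g hg
  refine ⟨(res h ⟨g, hg⟩, res h.not ⟨g, hg⟩), ⟨⟨_, rfl⟩, ⟨_, rfl⟩⟩, ?_⟩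
  apply Equiv.ext
  intro x
  show Perm.subtypeCongr _ _ x = g x
  by_cases hx : p x
  · rw [Perm.subtypeCongr.left_apply _ _ hx]; rfl
  · rw [Perm.subtypeCongr.right_apply _ _ hx]; rfl

theorem card_map_prod (A : Subgroup (Perm {x // p x})) (B : Subgroup (Perm {x // ¬p x})) :
    Nat.card ((A.prod B).map (Perm.subtypeCongrHom p)) = Nat.card A * Nat.card B := by
  rw [← Nat.card_congr ((A.prod B).equivMapOfInjective _
      (Perm.subtypeCongrHom_injective p)).toEquiv,
    Nat.card_congr (Subgroup.prodEquiv A B).toEquiv, Nat.card_prod]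

theorem card_le_mul {N : Subgroup (Perm α)} (h : Inv p N) :
    Nat.card N ≤ Nat.card (res h).range * Nat.card (res h.not).range :=
  (Subgroup.card_le_of_le (le_map h)).trans (card_map_prod _ _).le

theorem card_dvd_mul {N : Subgroup (Perm α)} (h : Inv p N) :
    Nat.card N ∣ Nat.card (res h).range * Nat.card (res h.not).range :=
  (Subgroup.card_dvd_of_le (le_map h)).trans (card_map_prod _ _).dvd

theorem nilpotent_range {N : Subgroup (Perm α)} (hN : Group.IsNilpotent N) {H : Type*} [Group H]
    (f : N →* H) : Group.IsNilpotent f.range := by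
  haveI := hN
  exact Group.nilpotent_of_surjective f.rangeRestrict f.rangeRestrict_surjective

theorem orbit_res {N : Subgroup (Perm α)} (h : Inv p N) (x : {x // p x}) :
    Subtype.val '' (orbit (res h).range x) = orbit N (x : α) := by
  ext y
  constructor
  · rintro ⟨z, ⟨⟨_, g, rfl⟩, rfl⟩, rfl⟩
    exact ⟨g, rfl⟩
  · rintro ⟨g, rfl⟩
    exact ⟨res h g x, ⟨⟨_, g, rfl⟩, rfl⟩, rfl⟩

theorem card_orbit_res {N : Subgroup (Perm α)} (h : Inv p N) (x : {x // p x}) :
    Nat.card (orbit (res h).range x) = Nat.card (orbit N (x : α)) := by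
  rw [← orbit_res h x, Nat.card_image_of_injective Subtype.val_injective]

theorem inv_orbit (N : Subgroup (Perm α)) (a : α) : Inv (fun x => x ∈ orbit N a) N := by
  intro g hg x
  constructor
  · rintro ⟨k, hk⟩
    refine ⟨(⟨g, hg⟩ : N)⁻¹ * k, ?_⟩
    show g⁻¹ ((k : Perm α) a) = x
    rw [show (k : Perm α) a = g x from hk]; simp
  · rintro ⟨k, rfl⟩
    exact ⟨(⟨g, hg⟩ : N) * k, rfl⟩

theorem sign_res_mul {N : Subgroup (Perm α)} (h : Inv p N) (g : N) :
    Perm.sign (res h g) * Perm.sign (res h.not g) = Perm.sign (g : Perm α) := by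
  rw [← Perm.sign_subtypeCongr]
  congr 1
  apply Equiv.ext
  intro x
  by_cases hx : p x
  · rw [Perm.subtypeCongr.left_apply _ _ hx]; rfl
  · rw [Perm.subtypeCongr.right_apply _ _ hx]; rfl

omit [DecidablePred p] in
theorem card_add_not (q : α → Prop) :
    Nat.card {x // q x} + Nat.card {x // ¬q x} = Nat.card α := by
  classical
  rw [← Nat.card_sum, Nat.card_congr (Equiv.sumCompl q)]

/-- The orbit of `a` gives a transitive group and the rest. -/
theorem split_orbit (N : Subgroup (Perm α)) (hN : Group.IsNilpotent N) (a : α)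
    [DecidablePred fun x => x ∈ orbit N a] :
    Nat.card (res (inv_orbit N a)).range ∣ nilF (Nat.card (orbit N a)) ∧
    Nat.card {x // ¬x ∈ orbit N a} + Nat.card (orbit N a) = Nat.card α ∧
    0 < Nat.card (orbit N a) := by
  haveI : Nonempty {x // x ∈ orbit N a} := ⟨⟨a, mem_orbit_self a⟩⟩
  haveI : IsPretransitive (res (inv_orbit N a)).range {x // x ∈ orbit N a} := by
    constructor
    rintro ⟨x, g, rfl⟩ ⟨y, g', rfl⟩
    refine ⟨⟨res (inv_orbit N a) (g' * g⁻¹), _, rfl⟩, Subtype.ext ?_⟩
    show ((g' * g⁻¹ : N) : Perm α) ((g : Perm α) a) = (g' : Perm α) a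
    simp
  refine ⟨card_dvd_nilF _ (nilpotent_range hN _), ?_, ?_⟩
  · rw [add_comm]; exact card_add_not (fun x => x ∈ orbit N a)
  · exact Nat.card_pos

theorem card_eq_one_of_isEmpty [IsEmpty α] (N : Subgroup (Perm α)) : Nat.card N = 1 :=
  Nat.card_of_subsingleton (1 : N)

omit p in
/-- The bound for nilpotent groups, for groups without orbits of size three. -/
theorem card_le_of_no_three : ∀ (n : ℕ) {α : Type u} [Fintype α] [DecidableEq α],
    Nat.card α = n → ∀ (N : Subgroup (Perm α)), Group.IsNilpotent N →
      (∀ a : α, Nat.card (orbit N a) ≠ 3) → Nat.card N ≤ 2 ^ nilNu n := by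
  intro n
  induction n using Nat.strong_induction_on with
  | _ n ih =>
    intro α _ _ hn N hN h3
    classical
    rcases isEmpty_or_nonempty α with hα | ⟨⟨a⟩⟩
    · rw [card_eq_one_of_isEmpty N]; exact Nat.one_le_two_pow
    obtain ⟨hF, hsum, hpos⟩ := split_orbit N hN a
    refine (card_le_mul (inv_orbit N a)).trans ?_
    refine (Nat.mul_le_mul (Nat.le_of_dvd (nilF_pos _) hF)
      (ih _ (by omega) rfl _ (nilpotent_range hN _) fun x => by
        rw [card_orbit_res]; exact h3 _)).trans ?_
    refine (Nat.mul_le_mul_right _ (nilF_le hpos.ne' (h3 a))).trans ?_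
    rw [← pow_add]
    exact Nat.pow_le_pow_right (by norm_num) ((nilNu_add _ _).trans (by rw [add_comm, hsum, hn]))

omit p in
/-- **Nilpotent permutation groups have order at most `nilH n`.** -/
theorem card_le_nilH : ∀ (n : ℕ) {α : Type u} [Fintype α] [DecidableEq α],
    Nat.card α = n → ∀ (N : Subgroup (Perm α)), Group.IsNilpotent N → Nat.card N ≤ nilH n := by
  intro n
  induction n using Nat.strong_induction_on with
  | _ n ih =>
    intro α _ _ hn N hN
    classical
    by_cases h3 : ∀ a : α, Nat.card (orbit N a) ≠ 3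
    · exact (card_le_of_no_three n hn N hN h3).trans (two_pow_le_nilH n)
    push Not at h3
    obtain ⟨a, ha⟩ := h3
    obtain ⟨hF, hsum, -⟩ := split_orbit N hN a
    rw [ha, nilF_small.1] at hF
    refine (card_le_mul (inv_orbit N a)).trans ?_
    refine (Nat.mul_le_mul (Nat.le_of_dvd (by norm_num) hF)
      (ih _ (by omega) rfl _ (nilpotent_range hN _))).trans ?_
    rw [← hn, ← hsum, ha]
    exact three_mul_nilH_le _

omit p in
theorem even_of_odd_card {H : Type*} [Group H] (f : H →* ℤˣ) (h : Odd (Nat.card H)) (x : H) :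
    f x = 1 := by
  rw [← orderOf_eq_one_iff]
  refine Nat.eq_one_of_dvd_coprimes (Nat.coprime_two_left.mpr h) ?_ ?_
  · exact orderOf_dvd_of_pow_eq_one (Int.units_sq (f x))
  · exact (orderOf_map_dvd f x).trans (orderOf_dvd_natCard x)

omit p in
/-- Without odd orbits of size at least three a nilpotent group is a 2-group or small. -/
theorem two_group_or_small : ∀ (n : ℕ) {α : Type u} [Fintype α] [DecidableEq α],
    Nat.card α = n → ∀ (N : Subgroup (Perm α)), Group.IsNilpotent N →
      (∀ a : α, Odd (Nat.card (orbit N a)) → Nat.card (orbit N a) = 1) →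
      (∃ j, Nat.card N ∣ 2 ^ j) ∨ 2 * Nat.card N ≤ 2 ^ nilNu n := by
  intro n
  induction n using Nat.strong_induction_on with
  | _ n ih =>
    intro α _ _ hn N hN hodd
    classical
    rcases isEmpty_or_nonempty α with hα | ⟨⟨a⟩⟩
    · left; exact ⟨0, by rw [card_eq_one_of_isEmpty N, pow_zero]⟩
    obtain ⟨hF, hsum, hpos⟩ := split_orbit N hN a
    have hrestN := nilpotent_range hN (res (inv_orbit N a).not)
    have hrest3 : ∀ x, Nat.card (orbit (res (inv_orbit N a).not).range x) ≠ 3 := fun x h => by
      rw [card_orbit_res] at h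
      have := hodd _ (by rw [h]; decide)
      omega
    have hmul := card_le_mul (inv_orbit N a)
    have hpow : 2 ^ nilNu (Nat.card (orbit N a)) * 2 ^ nilNu (Nat.card {x // ¬x ∈ orbit N a}) ≤
        2 ^ nilNu n := by
      rw [← pow_add]
      exact Nat.pow_le_pow_right (by norm_num)
        ((nilNu_add _ _).trans (by rw [add_comm, hsum, hn]))
    by_cases hp : ∃ i, Nat.card (orbit N a) = 2 ^ i
    · obtain ⟨i, hi⟩ := hp
      rw [hi, nilF_two_pow] at hF
      rcases ih _ (by omega) rfl _ hrestN (fun x h => by
        rw [card_orbit_res] at h ⊢; exact hodd _ h) with ⟨j, hj⟩ | hsmall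
      · left
        exact ⟨nilNu (2 ^ i) + j, (card_dvd_mul (inv_orbit N a)).trans
          (by rw [pow_add]; exact mul_dvd_mul hF hj)⟩
      · right
        rw [hi] at hpow
        refine (Nat.mul_le_mul_left 2 hmul).trans ?_
        calc 2 * (Nat.card (res (inv_orbit N a)).range * Nat.card (res (inv_orbit N a).not).range)
            = Nat.card (res (inv_orbit N a)).range *
                (2 * Nat.card (res (inv_orbit N a).not).range) := by ring
          _ ≤ 2 ^ nilNu (2 ^ i) * 2 ^ nilNu (Nat.card {x // ¬x ∈ orbit N a}) :=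
              Nat.mul_le_mul (Nat.le_of_dvd (by positivity) hF) hsmall
          _ ≤ _ := hpow
    · push Not at hp
      right
      have he : Even (Nat.card (orbit N a)) := by
        rcases Nat.even_or_odd (Nat.card (orbit N a)) with h | h
        · exact h
        · exact absurd (by rw [hodd a h, pow_zero]) (hp 0)
      refine (Nat.mul_le_mul_left 2 hmul).trans ?_
      rw [← mul_assoc]
      refine (Nat.mul_le_mul ((Nat.mul_le_mul_left 2 (Nat.le_of_dvd (nilF_pos _) hF)).trans
        (two_mul_nilF_le_even he hpos.ne' hp))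
        (card_le_of_no_three _ rfl _ hrestN hrest3)).trans hpow

omit p in
theorem two_mul_le_of_no_odd (N : Subgroup (Perm α)) (hN : Group.IsNilpotent N)
    (hev : ∀ g ∈ N, Perm.sign g = 1) (h2 : 2 ≤ Nat.card α)
    (hodd : ∀ a : α, Odd (Nat.card (orbit N a)) → Nat.card (orbit N a) = 1) :
    2 * Nat.card N ≤ 2 ^ nilNu (Nat.card α) := by
  rcases two_group_or_small _ rfl N hN hodd with ⟨j, hj⟩ | h
  · haveI : Nontrivial α := Finite.one_lt_card_iff_nontrivial.mp h2
    obtain ⟨i, -, hi⟩ := (Nat.dvd_prime_pow Nat.prime_two).mp hj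
    have h1 : N ≤ alternatingGroup α := fun g hg => Perm.mem_alternatingGroup.mpr (hev g hg)
    have h2 := Nat.mul_dvd_mul_left 2 (Subgroup.card_dvd_of_le h1)
    rw [two_mul_nat_card_alternatingGroup, Nat.card_perm, hi, ← pow_succ',
      padicValNat_dvd_iff_le (Nat.factorial_ne_zero _)] at h2
    rw [hi, ← pow_succ']
    exact Nat.pow_le_pow_right (by norm_num) h2
  · exact h

omit p in
theorem rest_even (N : Subgroup (Perm α)) (hN : Group.IsNilpotent N)
    (hev : ∀ g ∈ N, Perm.sign g = 1) (a : α) [DecidablePred fun x => x ∈ orbit N a]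
    (hd : Odd (Nat.card (orbit N a))) :
    ∀ g ∈ (res (inv_orbit N a).not).range, Perm.sign g = 1 := by
  rintro _ ⟨g, rfl⟩
  have h := sign_res_mul (inv_orbit N a) g
  rw [hev _ g.2] at h
  have h1 := even_of_odd_card ((Perm.sign).comp (res (inv_orbit N a)).range.subtype)
    ((nilF_odd hd).of_dvd_nat (split_orbit N hN a).1) ⟨_, g, rfl⟩
  simp only [MonoidHom.comp_apply, Subgroup.coe_subtype] at h1
  rw [h1, one_mul] at h
  exact h

omit p in
/-- **Nilpotent groups of even permutations have order at most `nilK n / 2`.** -/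
theorem card_le_nilK : ∀ (n : ℕ) {α : Type u} [Fintype α] [DecidableEq α],
    Nat.card α = n → ∀ (N : Subgroup (Perm α)), Group.IsNilpotent N →
      (∀ g ∈ N, Perm.sign g = 1) → 2 * Nat.card N ≤ nilK n := by
  intro n
  induction n using Nat.strong_induction_on with
  | _ n ih =>
    intro α _ _ hn N hN hev
    classical
    rcases lt_or_ge n 2 with hn2 | hn2
    · have hsub : Subsingleton α := Finite.card_le_one_iff_subsingleton.mp (by omega)
      rw [show Nat.card N = 1 from Nat.card_of_subsingleton (1 : N)]
      simp [nilK, show n ≤ 1 by omega]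
    by_cases hodd : ∀ a : α, Odd (Nat.card (orbit N a)) → Nat.card (orbit N a) = 1
    · have := two_mul_le_of_no_odd N hN hev (by omega) hodd
      rw [hn] at this
      exact this.trans (two_pow_le_nilK hn2)
    push Not at hodd
    obtain ⟨a, hd, hd1⟩ := hodd
    obtain ⟨hF, hsum, hpos⟩ := split_orbit N hN a
    refine (Nat.mul_le_mul_left 2 (card_le_mul (inv_orbit N a))).trans ?_
    rw [mul_left_comm]
    refine (Nat.mul_le_mul (Nat.le_of_dvd (nilF_pos _) hF)
      (ih _ (by omega) rfl _ (nilpotent_range hN _) (rest_even N hN hev a hd))).trans ?_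
    refine (nilF_mul_nilK_le hd hd1).trans ?_
    rw [add_comm, hsum, hn]

end Cfsg.Agent.Lib.Alt.Nil
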