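/-
Subgroups of odd index and pronormality.
-/
import Cfsg.Agent.Lib.Alt.AltSylow
import Cfsg.Prelude.Def_HallClasses
import Mathlib.GroupTheory.SpecificGroups.Alternating.Simple

set_option autoImplicit false
set_option linter.unusedSectionVars false

open Equiv

namespace Cfsg.Agent.Lib.Alt

/-- A subgroup of odd index contains a Sylow 2-subgroup. -/
theorem exists_sylow_le_of_odd_index {G : Type*} [Group G] [Finite G] (H : Subgroup G)
    (hH : Odd H.index) : ∃ S : Sylow 2 G, (S : Subgroup G) ≤ H := by
  have : Fact (Nat.Prime 2) := ⟨Nat.prime_two⟩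
  let T : Sylow 2 ↥H := default
  have hT : IsPGroup 2 ↥((T : Subgroup ↥H).map H.subtype) := T.isPGroup'.map _
  have hidx : ¬ 2 ∣ ((T : Subgroup ↥H).map H.subtype).index := by
    rw [Subgroup.index_map_subtype]
    intro h
    rcases Nat.prime_two.dvd_mul.1 h with h | h
    · exact T.not_dvd_index h
    · exact Nat.not_even_iff_odd.2 hH (even_iff_two_dvd.2 h)
  exact ⟨hT.toSylow hidx, Subgroup.map_subtype_le _⟩

/-- An overgroup of the normalizer of a Sylow subgroup is pronormal. -/
theorem pronormal_of_normalizer_le {G : Type*} [Group G] [Finite G] {p : ℕ} [Fact p.Prime]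
    (S : Sylow p G) (H : Subgroup G) (hSH : (S : Subgroup G) ≤ H)
    (hN : Subgroup.normalizer ((S : Subgroup G) : Set G) ≤ H) : Cfsg.IsPronormal H := by
  intro g
  set J := H ⊔ H.map (MulAut.conj g).toMonoidHom with hJ
  have h1 : (S : Subgroup G) ≤ J := hSH.trans le_sup_left
  have h2 : ((g • S : Sylow p G) : Subgroup G) ≤ J := by
    rw [Sylow.coe_subgroup_smul]
    exact le_trans (Subgroup.map_mono hSH) le_sup_right
  obtain ⟨j, hj⟩ := MulAction.exists_smul_eq ↥J ((g • S).subtype h2) (S.subtype h1)
  have hj' : ((j : G) * g) • S = S := by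
    rw [mul_smul]
    rw [Sylow.smul_subtype] at hj
    have hj2 := Sylow.subtype_injective hj
    rw [Subgroup.smul_def] at hj2
    exact hj2
  have hjg : (j : G) * g ∈ H := hN (Sylow.smul_eq_iff_mem_normalizer.1 hj')
  refine ⟨(j : G)⁻¹, J.inv_mem j.2, ?_⟩
  have hfix : H.map (MulAut.conj ((j : G) * g)).toMonoidHom = H := by
    ext x
    simp only [Subgroup.mem_map, MulEquiv.coe_toMonoidHom, MulAut.conj_apply]
    constructor
    · rintro ⟨y, hy, rfl⟩; exact H.mul_mem (H.mul_mem hjg hy) (H.inv_mem hjg)
    · intro hx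
      refine ⟨((j : G) * g)⁻¹ * x * ((j : G) * g), H.mul_mem (H.mul_mem (H.inv_mem hjg) hx) hjg, by group⟩
  conv_rhs => rw [← hfix, Subgroup.map_map]
  congr 1
  ext x
  simp [mul_assoc]

/-- A subgroup of prime index is pronormal. -/
theorem pronormal_of_prime_index {G : Type*} [Group G] [Finite G] (H : Subgroup G)
    (hH : H.index.Prime) : Cfsg.IsPronormal H := by
  intro g
  set J := H ⊔ H.map (MulAut.conj g).toMonoidHom with hJ
  have hle : H ≤ J := le_sup_left
  rcases (Nat.dvd_prime hH).1 (Subgroup.index_dvd_of_le hle) with h | h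
  · exact ⟨g, (Subgroup.index_eq_one.1 h) ▸ Subgroup.mem_top g, rfl⟩
  · have hJH : H = J := by
      refine Subgroup.eq_of_le_of_card_ge hle ?_
      have e1 := H.card_mul_index
      have e2 := J.card_mul_index
      rw [h] at e2
      exact le_of_eq (Nat.eq_of_mul_eq_mul_right hH.pos (e2.trans e1.symm))
    refine ⟨1, J.one_mem, ?_⟩
    have hle' : H.map (MulAut.conj g).toMonoidHom ≤ H := le_trans (le_sup_right (a := H)) hJH.symm.le
    rw [Subgroup.eq_of_le_of_card_ge hle'
      (by rw [Subgroup.card_map_of_injective (MulAut.conj g).injective])]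
    ext x; simp

/-- A subgroup of odd index of an alternating group is pronormal. -/
theorem pronormal_alt {Ω : Type*} [Fintype Ω] [DecidableEq Ω] (hn : 5 ≤ Fintype.card Ω)
    (H : Subgroup ↥(alternatingGroup Ω)) (hH : Odd H.index) : Cfsg.IsPronormal H := by
  have : Fact (Nat.Prime 2) := ⟨Nat.prime_two⟩
  obtain ⟨S, hS⟩ := exists_sylow_le_of_odd_index H hH
  rcases Nat.lt_or_ge (Fintype.card Ω) 6 with h6 | h6
  · have h5 : Fintype.card Ω = 5 := by omega
    have : Nontrivial Ω := Fintype.one_lt_card_iff_nontrivial.1 (by omega)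
    have hcard : Nat.card ↥(alternatingGroup Ω) = 60 := by
      rw [nat_card_alternatingGroup, Nat.card_eq_fintype_card, h5]; decide
    have hdvd : H.index ∣ 15 := by
      have h1 : H.index ∣ 60 := hcard ▸ H.index_dvd_card
      have h2 : Nat.Coprime H.index 4 :=
        (Nat.Coprime.pow_right 2 (Nat.coprime_two_right.2 hH))
      exact h2.dvd_of_dvd_mul_right (by norm_num; exact h1)
    have hmem := Nat.le_of_dvd (by norm_num) hdvd
    rcases (show H.index = 1 ∨ H.index = 3 ∨ H.index = 5 ∨ H.index = 15 by
      interval_cases H.index <;> omega) with h | h | h | h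
    · rw [Subgroup.index_eq_one.1 h]
      intro g
      exact ⟨g, le_sup_left (a := (⊤ : Subgroup ↥(alternatingGroup Ω))) (Subgroup.mem_top g), rfl⟩
    · exact pronormal_of_prime_index H (h ▸ Nat.prime_three)
    · exact pronormal_of_prime_index H (h ▸ Nat.prime_five)
    · have hHS : H = (S : Subgroup ↥(alternatingGroup Ω)) := by
        refine (Subgroup.eq_of_le_of_card_ge hS ?_).symm
        have e := H.card_mul_index
        rw [h, hcard] at e
        have hS4 : 4 ∣ Nat.card ↥(S : Subgroup ↥(alternatingGroup Ω)) := by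
          have := S.pow_dvd_card_of_pow_dvd_card (n := 2) (by rw [hcard]; norm_num)
          simpa using this
        have := Nat.le_of_dvd Nat.card_pos hS4
        omega
      intro g
      set J := H ⊔ H.map (MulAut.conj g).toMonoidHom with hJ
      have h1 : (S : Subgroup ↥(alternatingGroup Ω)) ≤ J := hHS ▸ le_sup_left
      have h2 : ((g • S : Sylow 2 ↥(alternatingGroup Ω)) : Subgroup _) ≤ J := by
        rw [Sylow.coe_subgroup_smul]
        exact le_trans (le_of_eq (by rw [hHS]; rfl)) (le_sup_right (a := H))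
      obtain ⟨j, hj⟩ := MulAction.exists_smul_eq ↥J (S.subtype h1) ((g • S).subtype h2)
      refine ⟨j, j.2, ?_⟩
      rw [Sylow.smul_subtype] at hj
      have hj2 := congrArg Sylow.toSubgroup (Sylow.subtype_injective hj)
      simp only [Subgroup.smul_def, Sylow.coe_subgroup_smul] at hj2
      rw [hHS]
      exact hj2.symm
  · exact pronormal_of_normalizer_le S H hS (by rw [alt_sylow_normalizer_eq h6 S]; exact hS)

end Cfsg.Agent.Lib.Alt
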